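import Mathlib

/-!
A symmetric idempotent matrix over the rationals invariant under a permutation of order three: the
trace of its fixed part is an integer of the parity of the trace.
-/

set_option autoImplicit false
set_option linter.style.haveILetI false
set_option linter.unusedSectionVars false

namespace Cfsg.Agent.Lib.FischerMTypes.Thirteen

open Matrix

variable {α : Type*} [Fintype α] [DecidableEq α]

/-- the trace of an idempotent is a natural number, which is even if a square root of `-3` acts on its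
image -/
theorem exists_trace_even {E S : Matrix α α ℚ} (hE : E * E = E) (hES : E * S = S)
    (hS : S * S = (-3 : ℚ) • E) : ∃ r : ℕ, E.trace = r ∧ Even r := by
  set f := Matrix.toLin' E
  have hf : f ∘ₗ f = f := by rw [← Matrix.toLin'_mul, hE]
  have hp : LinearMap.IsProj (LinearMap.range f) f :=
    ⟨fun x => LinearMap.mem_range_self f x, by
      rintro _ ⟨x, rfl⟩
      exact LinearMap.congr_fun hf x⟩
  set W := LinearMap.range f
  refine ⟨Module.finrank ℚ W, by rw [← Matrix.trace_toLin'_eq, hp.trace], ?_⟩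
  set s := Matrix.toLin' S
  have hs : ∀ x ∈ W, s x ∈ W := fun x _ => ⟨s x, by rw [← LinearMap.comp_apply, ← Matrix.toLin'_mul, hES]⟩
  set sW := s.restrict hs
  have hsq : sW * sW = (-3 : ℚ) • (1 : W →ₗ[ℚ] W) := by
    refine LinearMap.ext fun x => Subtype.ext ?_
    show s (s x.1) = (-3 : ℚ) • x.1
    rw [← LinearMap.comp_apply, ← Matrix.toLin'_mul, hS, map_smul, LinearMap.smul_apply]
    exact congrArg _ (hp.map_id x.1 x.2)
  have hdet := congrArg LinearMap.det hsq
  rw [map_mul, LinearMap.det_smul, map_one, mul_one] at hdet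
  by_contra hodd
  rw [Nat.not_even_iff_odd] at hodd
  rw [hodd.neg_pow] at hdet
  have h1 := mul_self_nonneg (LinearMap.det sW)
  rw [hdet] at h1
  have : (0 : ℚ) < 3 ^ Module.finrank ℚ W := by positivity
  linarith

/-- the trace of an idempotent is a natural number -/
theorem exists_trace_nat {E : Matrix α α ℚ} (hE : E * E = E) : ∃ r : ℕ, E.trace = r := by
  have hf : Matrix.toLin' E ∘ₗ Matrix.toLin' E = Matrix.toLin' E := by rw [← Matrix.toLin'_mul, hE]
  have hp : LinearMap.IsProj (LinearMap.range (Matrix.toLin' E)) (Matrix.toLin' E) :=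
    ⟨fun x => LinearMap.mem_range_self _ x, by
      rintro _ ⟨x, rfl⟩
      exact LinearMap.congr_fun hf x⟩
  exact ⟨_, by rw [← Matrix.trace_toLin'_eq, hp.trace]⟩

variable {M : Matrix α α ℚ}

/-- the fixed part and the moved part -/
theorem exists_trace_parts (hM : M * M = M) (hsym : ∀ a b, M a b = M b a) {σ : Equiv.Perm α}
    (hσ : σ ^ 3 = 1) (hinv : ∀ a b, M (σ a) (σ b) = M a b) :
    ∃ r s : ℕ, Even s ∧ 3 * (r : ℚ) = M.trace + 2 * ∑ a, M a (σ a) ∧ (r : ℚ) + s = M.trace := by
  set P : Matrix α α ℚ := σ.permMatrix ℚ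
  have hP3 : P * P * P = 1 := by
    simp only [P, ← Matrix.permMatrix_mul]
    rw [← Matrix.permMatrix_one (n := α) (R := ℚ)]
    congr 1
  have hPe : ∀ a b, (P * M) a b = M (σ a) b := fun a b => by
    simp [P, Equiv.Perm.permMatrix, PEquiv.toMatrix_toPEquiv_mul]
  have hMe : ∀ a b, (M * P) a b = M a (σ.symm b) := fun a b => by
    simp [P, Equiv.Perm.permMatrix, PEquiv.mul_toMatrix_toPEquiv]
  have hcomm : P * M = M * P := by
    ext a b
    rw [hPe, hMe, ← hinv a (σ.symm b), Equiv.apply_symm_apply]
  set Q : Matrix α α ℚ := 1 + P + P * P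
  have hPQ : P * Q = Q := by
    simp only [Q, mul_add, mul_one]
    rw [← mul_assoc, hP3]
    abel
  have hQQ : Q * Q = (3 : ℚ) • Q := by
    have h : Q * Q = Q + P * Q + P * (P * Q) := by
      simp only [Q, add_mul, one_mul, mul_assoc]
    rw [h, hPQ, hPQ]
    module
  have hQM : Q * M = M * Q := by
    simp only [Q, add_mul, mul_add, one_mul, mul_one, mul_assoc, hcomm]
    rw [← mul_assoc P M, hcomm, mul_assoc]
  set E : Matrix α α ℚ := (1 / 3 : ℚ) • (M * Q)
  have hEE : E * E = E := by
    show ((1 / 3 : ℚ) • (M * Q)) * ((1 / 3 : ℚ) • (M * Q)) = (1 / 3 : ℚ) • (M * Q)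
    rw [smul_mul_smul_comm, show M * Q * (M * Q) = M * M * (Q * Q) by
      rw [mul_assoc, ← mul_assoc Q M, hQM, mul_assoc, ← mul_assoc M M], hM, hQQ, mul_smul_comm, smul_smul]
    norm_num
  have hEM : E * M = E := by
    show ((1 / 3 : ℚ) • (M * Q)) * M = _
    rw [smul_mul_assoc, mul_assoc, hQM, ← mul_assoc, hM]
  have hME : M * E = E := by
    show M * ((1 / 3 : ℚ) • (M * Q)) = _
    rw [mul_smul_comm, ← mul_assoc, hM]
  have hPE : P * E = E := by
    show P * ((1 / 3 : ℚ) • (M * Q)) = _
    rw [mul_smul_comm, ← mul_assoc, hcomm, mul_assoc, hPQ]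
  have hEP : E * P = E := by
    have hQP : Q * P = Q := by
      simp only [Q, add_mul, one_mul]
      rw [hP3]
      abel
    show ((1 / 3 : ℚ) • (M * Q)) * P = _
    rw [smul_mul_assoc, mul_assoc, hQP]
  set E' : Matrix α α ℚ := M - E
  have hE' : E' * E' = E' := by
    simp only [E', sub_mul, mul_sub, hM, hME, hEM, hEE]
    abel
  have hcomm' : P * E' = E' * P := by
    simp only [E', sub_mul, mul_sub, hcomm, hPE, hEP]
  set S : Matrix α α ℚ := E' + (2 : ℚ) • (P * E')
  have hkill : E' + P * E' + P * (P * E') = 0 := by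
    have h : Q * E' = 0 := by
      have hQE : Q * E = (3 : ℚ) • E := by
        simp only [Q, add_mul, one_mul, mul_assoc, hPE]
        module
      show Q * (M - E) = 0
      rw [mul_sub, hQM, hQE]
      show M * Q - (3 : ℚ) • ((1 / 3 : ℚ) • (M * Q)) = 0
      rw [smul_smul]
      norm_num
    simpa only [Q, add_mul, one_mul, mul_assoc] using h
  have h1 : E' * (P * E') = P * E' := by rw [← mul_assoc, ← hcomm', mul_assoc, hE']
  have h2 : P * E' * E' = P * E' := by rw [mul_assoc, hE']
  have h3 : P * E' * (P * E') = P * (P * E') := by rw [mul_assoc, h1]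
  obtain ⟨s, hs, hseven⟩ := exists_trace_even (E := E') (S := S) hE'
    (by simp only [S, mul_add, mul_smul_comm, hE', h1])
    (by
      simp only [S, add_mul, mul_add, smul_mul_assoc, mul_smul_comm, hE', h1, h2, h3]
      linear_combination (norm := module) (4 : ℚ) • hkill)
  obtain ⟨r, hr⟩ := exists_trace_nat hEE
  refine ⟨r, s, hseven, ?_, ?_⟩
  · rw [← hr]
    show 3 * ((1 / 3 : ℚ) • (M * Q)).trace = _
    have ht : (M * P).trace = ∑ a, M a (σ a) := by
      show ∑ a, (M * P) a a = _
      rw [← Equiv.sum_comp σ]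
      refine Finset.sum_congr rfl fun a _ => ?_
      rw [hMe, Equiv.symm_apply_apply, hsym]
    have ht2 : (M * (P * P)).trace = ∑ a, M a (σ a) := by
      show ∑ a, (M * (P * P)) a a = _
      refine Finset.sum_congr rfl fun a _ => ?_
      rw [← mul_assoc]
      show (M * P * P) a a = _
      simp only [P, Equiv.Perm.permMatrix, PEquiv.mul_toMatrix_toPEquiv, Matrix.submatrix_apply, id]
      congr 1
      rw [Equiv.symm_apply_eq, Equiv.symm_apply_eq]
      have := congrArg (fun τ : Equiv.Perm α => τ a) hσ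
      simpa [pow_succ] using this.symm
    rw [Matrix.trace_smul, smul_eq_mul]
    simp only [Q, mul_add, mul_one, Matrix.trace_add, ht, ht2]
    ring
  · rw [← hr, ← hs]
    simp [E', Matrix.trace_sub]

end Cfsg.Agent.Lib.FischerMTypes.Thirteen
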