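import Mathlib
import Cfsg.Agent.Lib.FischerMTypes.OrderWidth
import Cfsg.Agent.Lib.FischerMTypes.InvolutionsM22
import Cfsg.Agent.Lib.FischerMTypes.Thirteen.Eigen

/-!
Type M(22): the idempotent of degree 429 on the transpositions. It bounds the sets in which every
member has few commuting partners, and gives the congruence for the transpositions that an element of
order three moves to commuting ones.
-/

set_option autoImplicit false
set_option linter.style.haveILetI false
set_option linter.unusedSectionVars false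

namespace Cfsg.Agent.Lib.FischerMTypes.Thirteen

open Cfsg.Agent.Lib.FischerMTypes.Basic Cfsg.Agent.Lib.FischerMTypes.Primitive
  Cfsg.Agent.Lib.FischerMTypes.PointModel Cfsg.Agent.Lib.FischerMTypes.TraceSize
open Cfsg.Agent.Lib.FischerMTypes.TraceCounts (Sys)
open Matrix

variable {G : Type*} [Group G] [Finite G] {D : Set G}
variable {F : Type} [Field F] [Fintype F]

open Classical in
/-- adjacency of commuting transpositions -/
noncomputable def adj (D : Set G) : Matrix D D ℚ :=
  Matrix.of fun a b => if b.1 ∈ perp D a.1 then 1 else 0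

open Classical in
/-- the idempotent -/
noncomputable def idem (D : Set G) [Fintype D] : Matrix D D ℚ :=
  (1 / 360 : ℚ) • ((5 : ℚ) • adj D + (45 : ℚ) • 1 - Matrix.of fun _ _ => 1)

theorem mem_perp_comm {a b : G} (ha : a ∈ D) (hb : b ∈ D) : b ∈ perp D a ↔ a ∈ perp D b :=
  ⟨fun h => ⟨ha, Ne.symm h.2.1, h.2.2.symm⟩, fun h => ⟨hb, Ne.symm h.2.1, h.2.2.symm⟩⟩

variable (S : Sys D F) [Fintype D] [DecidableEq D]

omit [Fintype D] [DecidableEq D] in
theorem adj_symm (a b : D) : adj D a b = adj D b a := by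
  classical
  simp only [adj, Matrix.of_apply]
  exact if_congr (mem_perp_comm a.2 b.2) rfl rfl

theorem idem_apply (a b : D) :
    idem D a b = (1 / 360 : ℚ) * (5 * adj D a b + (if a = b then 45 else 0) - 1) := by
  classical
  simp only [idem, Matrix.smul_apply, Matrix.sub_apply, Matrix.add_apply, Matrix.of_apply, smul_eq_mul,
    Matrix.one_apply, mul_ite, mul_one, mul_zero]

theorem idem_symm (a b : D) : idem D a b = idem D b a := by
  rw [idem_apply, idem_apply, adj_symm]
  simp only [eq_comm]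

omit [DecidableEq D] in
theorem sum_indicator (P : G → Prop) [DecidablePred P] :
    ∑ c : D, (if P c.1 then (1 : ℚ) else 0) = ({y | y ∈ D ∧ P y}.ncard : ℚ) := by
  rw [Finset.sum_boole]
  congr 1
  rw [← Fintype.card_subtype, ← Nat.card_eq_fintype_card, ← Nat.card_coe_set_eq]
  exact Nat.card_congr ⟨fun c => ⟨c.1.1, c.1.2, c.2⟩, fun y => ⟨⟨y.1, y.2.1⟩, y.2.2⟩, fun c => rfl,
    fun y => rfl⟩

include S in
omit [DecidableEq D] in
theorem sum_adj (a : D) : ∑ c, adj D a c = 693 := by
  classical
  simp only [adj, Matrix.of_apply]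
  rw [sum_indicator, show {y | y ∈ D ∧ y ∈ perp D a.1} = perp D a.1 from
    Set.ext fun y => ⟨And.right, fun h => ⟨h.1, h⟩⟩, (S.ctx a.1 a.2).ncard_perp]
  norm_num

include S in
omit [DecidableEq D] in
theorem sum_adj_mul [DecidableEq D] (a b : D) :
    ∑ c, adj D a c * adj D c b = (if a = b then 567 else 0) + 54 * adj D a b + 126 := by
  classical
  have h : ∀ c : D, adj D a c * adj D c b = if c.1 ∈ perp₂ D a.1 b.1 then 1 else 0 := fun c => by
    rw [adj_symm c b]
    simp only [adj, Matrix.of_apply]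
    rw [mul_comm]
    by_cases h1 : c.1 ∈ perp D a.1
    · by_cases h2 : c.1 ∈ perp D b.1
      · rw [if_pos h1, if_pos h2, if_pos (show c.1 ∈ perp₂ D a.1 b.1 from ⟨h1, h2⟩), one_mul]
      · rw [if_neg h2, zero_mul, if_neg (show c.1 ∉ perp₂ D a.1 b.1 from fun h => h2 h.2)]
    · rw [if_neg h1, mul_zero, if_neg (show c.1 ∉ perp₂ D a.1 b.1 from fun h => h1 h.1)]
  simp only [h]
  rw [sum_indicator, show {y | y ∈ D ∧ y ∈ perp₂ D a.1 b.1} = perp₂ D a.1 b.1 from
    Set.ext fun y => ⟨And.right, fun h => ⟨h.1.1, h⟩⟩]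
  simp only [adj, Matrix.of_apply]
  by_cases hab : a = b
  · subst hab
    rw [show perp₂ D a.1 a.1 = perp D a.1 from Set.ext fun y => ⟨And.left, fun h => ⟨h, h⟩⟩,
      (S.ctx a.1 a.2).ncard_perp, if_pos rfl, if_neg fun h => h.2.1 rfl]
    norm_num
  have hne : a.1 ≠ b.1 := fun h => hab (Subtype.ext h)
  rw [if_neg hab]
  by_cases hc : Commute a.1 b.1
  · have hm : b.1 ∈ perp D a.1 := ⟨b.2, Ne.symm hne, hc⟩
    rw [if_pos hm, (S.ctx a.1 a.2).ncard_edge hm]
    norm_num
  · rw [if_neg fun h => hc h.2.2, ncard_trace S a.2 b.2 hc]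
    norm_num

include S in
theorem idem_mul : idem D * idem D = idem D := by
  classical
  ext a b
  rw [Matrix.mul_apply]
  simp only [idem_apply]
  have hn : Fintype.card D = 3510 := by rw [← Nat.card_eq_fintype_card, Nat.card_coe_set_eq, ncard_class S]
  have h : ∀ c : D, (1 / 360 : ℚ) * (5 * adj D a c + (if a = c then 45 else 0) - 1) *
      ((1 / 360 : ℚ) * (5 * adj D c b + (if c = b then 45 else 0) - 1)) =
      (1 / 129600 : ℚ) * (25 * (adj D a c * adj D c b) + 225 * (if c = b then adj D a c else 0) - 5 * adj D a c +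
        225 * (if a = c then adj D c b else 0) + 2025 * (if a = c then (if c = b then (1 : ℚ) else 0) else 0) -
        45 * (if a = c then (1 : ℚ) else 0) - 5 * adj D c b - 45 * (if c = b then (1 : ℚ) else 0) + 1) := fun c => by
    split_ifs <;> ring
  simp only [h, ← Finset.mul_sum, Finset.sum_add_distrib, Finset.sum_sub_distrib, sum_adj_mul S,
    sum_adj S, Finset.sum_ite_eq, Finset.sum_ite_eq', Finset.mem_univ, if_true, Finset.sum_const,
    Finset.card_univ, hn, nsmul_eq_mul]
  rw [Finset.sum_congr rfl fun c _ => adj_symm c b, sum_adj S b]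
  split_ifs <;> ring

include S in
/-- a set in which every member commutes with `k` others has at most `5(k+9)` members -/
theorem ncard_le_of_regular {T : Set G} (hT : T ⊆ D) {k : ℕ}
    (hk : ∀ d ∈ T, {e | e ∈ T ∧ e ∈ perp D d}.ncard = k) : T.ncard ≤ 5 * (k + 9) := by
  classical
  set f : D → ℚ := fun a => if a.1 ∈ T then 1 else 0
  have hmv : f ⬝ᵥ idem D *ᵥ f = (idem D *ᵥ f) ⬝ᵥ (idem D *ᵥ f) := by
    conv_lhs => rw [← idem_mul S, ← Matrix.mulVec_mulVec, Matrix.dotProduct_mulVec]
    congr 1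
    ext a
    simp only [Matrix.vecMul, Matrix.mulVec, dotProduct]
    exact Finset.sum_congr rfl fun c _ => by rw [idem_symm c a, mul_comm]
  have hf : ∑ c, f c = T.ncard := by
    rw [sum_indicator (fun y => y ∈ T)]
    congr 2
    exact Set.ext fun y => ⟨And.right, fun h => ⟨hT h, h⟩⟩
  have hrow : ∀ a : D, a.1 ∈ T → (idem D *ᵥ f) a = (1 / 360 : ℚ) * (5 * k + 45 - T.ncard) := fun a ha => by
    simp only [Matrix.mulVec, dotProduct, idem_apply]
    have h : ∀ c : D, (1 / 360 : ℚ) * (5 * adj D a c + (if a = c then 45 else 0) - 1) * f c =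
        (1 / 360 : ℚ) * (5 * (adj D a c * f c) + 45 * (if a = c then f c else 0) - f c) := fun c => by
      split_ifs <;> ring
    have hadj : ∀ c : D, adj D a c * f c = if c.1 ∈ T ∧ c.1 ∈ perp D a.1 then 1 else 0 := fun c => by
      simp only [adj, Matrix.of_apply, f]
      split_ifs <;> simp_all
    simp only [h, ← Finset.mul_sum, Finset.sum_add_distrib, Finset.sum_sub_distrib, Finset.sum_ite_eq,
      Finset.mem_univ, if_true, hf, hadj]
    rw [sum_indicator (fun y => y ∈ T ∧ y ∈ perp D a.1),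
      show {y | y ∈ D ∧ y ∈ T ∧ y ∈ perp D a.1} = {e | e ∈ T ∧ e ∈ perp D a.1} from
        Set.ext fun y => ⟨And.right, fun h => ⟨hT h.1, h⟩⟩, hk a.1 ha]
    simp only [f, if_pos ha]
    ring
  have hq : f ⬝ᵥ idem D *ᵥ f = T.ncard * ((1 / 360 : ℚ) * (5 * k + 45 - T.ncard)) := by
    rw [← hf, Finset.sum_mul]
    refine Finset.sum_congr rfl fun a _ => ?_
    simp only [f]
    by_cases ha : a.1 ∈ T
    · rw [if_pos ha, one_mul, one_mul, hrow a ha]
      simp only [f] at hf
      rw [hf]
    · rw [if_neg ha, zero_mul, zero_mul]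
  by_contra hcon
  push Not at hcon
  have h0 : (0 : ℚ) ≤ T.ncard * ((1 / 360 : ℚ) * (5 * k + 45 - T.ncard)) := by
    rw [← hq, hmv]
    exact Finset.sum_nonneg fun a _ => mul_self_nonneg _
  have h1 : (5 * k + 45 : ℚ) < T.ncard := by exact_mod_cast (by omega : 5 * k + 45 < T.ncard)
  have h2 : (0 : ℚ) < T.ncard := lt_trans (by positivity) h1
  nlinarith

include S in
/-- an element of order three centralising no transposition moves `m` of them to commuting ones, where
`m ≡ 54 (mod 216)` -/
theorem moved_congr {y : G} (hy : y ^ 3 = 1) (hfree : ∀ d ∈ D, ¬ Commute y d) :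
    {d | d ∈ D ∧ Commute d (y * d * y⁻¹)}.ncard % 216 = 54 := by
  classical
  set σ : Equiv.Perm D := InvolutionsM22.conjPerm S.hD y
  have hσ : σ ^ 3 = 1 := by rw [← map_pow, hy, map_one]
  have hinv : ∀ a b, idem D (σ a) (σ b) = idem D a b := fun a b => by
    rw [idem_apply, idem_apply]
    congr 1
    congr 1
    congr 1
    · congr 1
      simp only [adj, Matrix.of_apply]
      exact if_congr (conj_mem_perp_iff S.hD y a.1 b.1) rfl rfl
    · exact if_congr σ.injective.eq_iff rfl rfl
  obtain ⟨r, s, hs, h3, hsum⟩ := exists_trace_parts (idem_mul S) idem_symm hσ hinv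
  have hn : Fintype.card D = 3510 := by rw [← Nat.card_eq_fintype_card, Nat.card_coe_set_eq, ncard_class S]
  have htr : (idem D).trace = 429 := by
    show ∑ a, idem D a a = _
    have h : ∀ a : D, idem D a a = 44 / 360 := fun a => by
      rw [idem_apply, if_pos rfl]
      simp only [adj, Matrix.of_apply]
      rw [if_neg fun h => h.2.1 rfl]
      norm_num
    simp only [h, Finset.sum_const, Finset.card_univ, hn, nsmul_eq_mul]
    norm_num
  set m := {d | d ∈ D ∧ Commute d (y * d * y⁻¹)}.ncard
  have hoff : ∀ a : D, σ a ≠ a := fun a h =>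
    hfree a.1 a.2 ((InvolutionsM22.conjPerm_fix_iff S.hD y a).mp h)
  have hadj : ∀ a : D, adj D a (σ a) = if Commute a.1 (y * a.1 * y⁻¹) then 1 else 0 := fun a => by
    simp only [adj, Matrix.of_apply]
    exact if_congr ⟨fun h => h.2.2, fun h => ⟨(σ a).2, fun e => hoff a (Subtype.ext e), h⟩⟩ rfl rfl
  have hmp : ∑ a, idem D a (σ a) = (5 * (m : ℚ) - 3510) / 360 := by
    have hz : ∀ a : D, (if a = σ a then (45 : ℚ) else 0) = 0 := fun a => if_neg (Ne.symm (hoff a))
    simp only [idem_apply, hz, add_zero, ← Finset.mul_sum,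
      Finset.sum_sub_distrib, Finset.sum_const, Finset.card_univ, hn, nsmul_eq_mul, mul_one, hadj]
    rw [sum_indicator (fun d => Commute d (y * d * y⁻¹))]
    push_cast
    ring
  rw [htr, hmp] at h3
  rw [htr] at hsum
  have e1 : (108 : ℚ) * r = 14742 + m := by linarith
  have e1' : 108 * r = 14742 + m := by exact_mod_cast e1
  have e2 : r + s = 429 := by exact_mod_cast hsum
  obtain ⟨c, hc⟩ := hs
  omega

end Cfsg.Agent.Lib.FischerMTypes.Thirteen
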