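import Mathlib
import Cfsg.Agent.Lib.FischerMTypes.Aut22.Six
import Cfsg.Agent.Lib.FischerMTypes.Large.Tools
import Cfsg.Agent.Lib.FischerMTypes.Eleven.Unitary
import Cfsg.Agent.Lib.FischerMTypes.Thirteen.Bound

/-!
Type M(22): involutions centralised by an element acting freely on the transpositions, and their number
when that element has order three.
-/

set_option autoImplicit false
set_option linter.style.haveILetI false
set_option linter.unusedSectionVars false

namespace Cfsg.Agent.Lib.FischerMTypes.Thirteen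

open Cfsg.Agent.Lib.FischerMTypes.Basic Cfsg.Agent.Lib.FischerMTypes.Primitive
  Cfsg.Agent.Lib.FischerMTypes.Aut22 Cfsg.Agent.Lib.FischerMTypes.Lines Cfsg.Agent.Lib.FischerMTypes.SixSets
open Cfsg.Agent.Lib.FischerMTypes.TraceCounts (Sys)
open Cfsg.Agent.Lib.FischerMTypes.InvolutionsM22 (IsProd)

variable {G : Type*} [Group G] [Finite G] {D : Set G}
variable {F : Type} [Field F] [Fintype F]

/-- a set stable under a freely acting subgroup has size divisible by its order -/
theorem card_dvd_stable {K : Subgroup G} {U : Set G} (hst : ∀ g ∈ K, ∀ u ∈ U, g * u * g⁻¹ ∈ U)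
    (hfree : ∀ g ∈ K, ∀ u ∈ U, Commute g u → g = 1) : Nat.card K ∣ U.ncard := by
  letI : MulAction K U :=
    { smul := fun g u => ⟨g.1 * u.1 * g.1⁻¹, hst g.1 g.2 u.1 u.2⟩
      one_smul := fun u => Subtype.ext (show (1 : G) * u.1 * (1 : G)⁻¹ = u.1 by group)
      mul_smul := fun g h u => Subtype.ext (show (g.1 * h.1) * u.1 * (g.1 * h.1)⁻¹ =
        g.1 * (h.1 * u.1 * h.1⁻¹) * g.1⁻¹ by group) }
  rw [← Nat.card_coe_set_eq]
  refine Eleven.card_dvd_of_free fun u => ?_
  rw [Subgroup.eq_bot_iff_forall]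
  intro g hg
  have h : g.1 * u.1 * g.1⁻¹ = u.1 := congrArg Subtype.val hg
  exact Subtype.ext (hfree g.1 g.2 u.1 u.2 (mul_inv_eq_iff_eq_mul.mp h))

/-- the members of a set commuting with all of it -/
abbrev core (U : Set G) : Set G := {z | z ∈ U ∧ ∀ w ∈ U, Commute z w}

/-- the transpositions centralised by `t` -/
abbrev tfix (D : Set G) (t : G) : Set G := {y | y ∈ D ∧ Commute t y}

theorem conj_mem_tfix (hD : Cfsg.IsThreeTranspositionGroup D) {g t u : G} (hg : Commute t g)
    (hu : u ∈ tfix D t) : g * u * g⁻¹ ∈ tfix D t :=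
  ⟨hD.2.1 g u hu.1, (hg.mul_right hu.2).mul_right hg.inv_right⟩

theorem conj_mem_core (hD : Cfsg.IsThreeTranspositionGroup D) {g t u : G} (hg : Commute t g)
    (hu : u ∈ core (tfix D t)) : g * u * g⁻¹ ∈ core (tfix D t) := by
  refine ⟨conj_mem_tfix hD hg hu.1, fun w hw => ?_⟩
  have h := hu.2 _ (conj_mem_tfix hD hg.inv_right hw)
  have h' := h.map (MulAut.conj g).toMonoidHom
  simpa [mul_assoc] using h'

variable (S : Sys D F)

include S in
theorem tfix_prod {a b c : G} (h : Tri D a b c) : tfix D (a * (b * c)) = cl3 D a b c := by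
  ext y
  constructor
  · rintro ⟨hy, hc⟩
    rw [← mul_assoc] at hc
    obtain ⟨c1, c2, c3⟩ := cross S.hD h.ma h.mb h.mc hy h.cab h.cac h.cbc h.nab h.nac h.nbc hc.symm
    exact ⟨hy, c1.symm, c2.symm, c3.symm⟩
  · exact fun hy => ⟨hy.1, hy.2.1.mul_left (hy.2.2.1.mul_left hy.2.2.2)⟩

include S in
theorem core_pair {a b : G} (ha : a ∈ D) (hb : b ∈ perp D a) : (core (tfix D (a * b))).ncard = 2 := by
  have hset : core (tfix D (a * b)) = {a, b} := by
    ext z
    constructor
    · rintro ⟨⟨hz, hc⟩, hall⟩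
      obtain ⟨c1, c2⟩ := comm_of_comm_mul S.hD.1 ha hb.1 hz hb.2.2 (Ne.symm hb.2.1) hc.symm
      by_contra hne
      simp only [Set.mem_insert_iff, Set.mem_singleton_iff, not_or] at hne
      have hz2 : z ∈ perp₂ D a b := ⟨⟨hz, hne.1, c1.symm⟩, hz, hne.2, c2.symm⟩
      have hsub : perp₂ D a b ⊆ insert z {w | w ∈ perp D a ∧ (w ≠ b ∧ w ≠ z ∧ Commute b w ∧ Commute z w)} := by
        intro w hw
        by_cases h : w = z
        · exact Or.inl h
        · exact Or.inr ⟨hw.1, hw.2.2.1, h, hw.2.2.2, hall w ⟨hw.1.1, hw.1.2.2.mul_left hw.2.2.2⟩⟩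
      have h1 := Set.ncard_le_ncard hsub (Set.toFinite _)
      have h2 := Set.ncard_insert_le z {w | w ∈ perp D a ∧ (w ≠ b ∧ w ≠ z ∧ Commute b w ∧ Commute z w)}
      rw [(S.ctx a ha).ncard_edge hb] at h1
      rw [(S.ctx a ha).ncard_edge₂ hb hz2.1 (Ne.symm hne.2) c2.symm] at h2
      omega
    · rintro (rfl | rfl)
      · exact ⟨⟨ha, (Commute.refl _).mul_left hb.2.2.symm⟩, fun w hw =>
          (comm_of_comm_mul S.hD.1 ha hb.1 hw.1 hb.2.2 (Ne.symm hb.2.1) hw.2.symm).1.symm⟩
      · exact ⟨⟨hb.1, hb.2.2.mul_left (Commute.refl _)⟩, fun w hw =>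
          (comm_of_comm_mul S.hD.1 ha hb.1 hw.1 hb.2.2 (Ne.symm hb.2.1) hw.2.symm).2.symm⟩
  rw [hset, Set.ncard_pair (Ne.symm hb.2.1)]

include S in
/-- the three classes, by the sizes of the fixed set and of its core -/
theorem invol_cases {t : G} (ht : orderOf t = 2) :
    (tfix D t).ncard = 694 ∨ ((tfix D t).ncard = 182 ∧ (core (tfix D t)).ncard = 2) ∨
      ((tfix D t).ncard = 54 ∧ (core (tfix D t)).ncard = 6 ∧ ∃ a b c, Tri D a b c ∧ t = a * (b * c)) := by
  obtain ⟨m, h1, h2, hp⟩ := (InvolutionsM22.three_classes S).1 t ht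
  have hc := InvolutionsM22.ncard_commuting_prod S h1 h2 hp
  obtain ⟨l, hn, hlen, hd, hcm, rfl⟩ := hp
  interval_cases m
  · exact Or.inl (by simpa using hc)
  · obtain ⟨a, b, rfl⟩ := List.length_eq_two.mp hlen
    refine Or.inr (Or.inl ⟨by simpa using hc, ?_⟩)
    simp only [List.prod_cons, List.prod_nil, mul_one]
    exact core_pair S (hd a (by simp)) ⟨hd b (by simp), Ne.symm (by simpa using hn), hcm a (by simp) b (by simp)⟩
  · obtain ⟨a, b, c, rfl⟩ := List.length_eq_three.mp hlen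
    simp only [List.nodup_cons, List.mem_cons, List.not_mem_nil, or_false, not_or, List.nodup_nil, and_true,
      not_false_eq_true] at hn
    have h : Tri D a b c := ⟨hd a (by simp), hd b (by simp), hd c (by simp), hn.1.1, hn.1.2, hn.2,
      hcm a (by simp) b (by simp), hcm a (by simp) c (by simp), hcm b (by simp) c (by simp)⟩
    refine Or.inr (Or.inr ⟨by simpa using hc, ?_, a, b, c, h, by simp⟩)
    simp only [List.prod_cons, List.prod_nil, mul_one]
    rw [tfix_prod S h]
    exact ncard_six S h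

include S in
/-- an element of order 13 centralising no transposition centralises no involution -/
theorem not_commute_invol {x t : G} (hx : orderOf x = 13) (hfree : ∀ d ∈ D, ¬ Commute x d) (ht : orderOf t = 2) :
    ¬ Commute x t := by
  intro hc
  have : Fact (Nat.Prime 13) := ⟨by norm_num⟩
  have h13 : x ^ 13 = 1 := hx ▸ pow_orderOf_eq_one x
  have key : ∀ U : Set G, U ⊆ tfix D t → (∀ u ∈ U, x * u * x⁻¹ ∈ U) → 13 ∣ U.ncard := fun U hU hst => by
    by_contra h
    obtain ⟨u, hu, hu'⟩ := Large.exists_fixed_elem h13 hst h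
    exact hfree u (hU hu).1 hu'
  have hT := key (tfix D t) subset_rfl fun u hu => conj_mem_tfix S.hD hc.symm hu
  have hZ := key (core (tfix D t)) (fun u hu => hu.1) fun u hu => conj_mem_core S.hD hc.symm hu
  rcases invol_cases S ht with h | ⟨-, h⟩ | ⟨-, h, -⟩ <;> omega

include S in
/-- a freely acting element of order three centralises only involutions of the third kind -/
theorem type_three {y t : G} (hy : orderOf y = 3) (hfree : ∀ d ∈ D, ¬ Commute y d) (ht : orderOf t = 2)
    (hc : Commute y t) : ∃ a b c, Tri D a b c ∧ t = a * (b * c) := by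
  have : Fact (Nat.Prime 3) := ⟨Nat.prime_three⟩
  have key : 3 ∣ (tfix D t).ncard := by
    by_contra h
    obtain ⟨u, hu, hu'⟩ := Large.exists_fixed_elem (x := y) (hy ▸ pow_orderOf_eq_one y)
      (fun u hu => conj_mem_tfix S.hD hc.symm hu) h
    exact hfree u hu.1 hu'
  rcases invol_cases S ht with h | ⟨h, -⟩ | ⟨-, -, h⟩
  · omega
  · omega
  · exact h

include S in
/-- the other three of a six -/
theorem six_complement {a b c : G} (h : Tri D a b c) : ∃ p q r, Tri D p q r ∧ p * (q * r) = a * (b * c) ∧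
    six D a b c = {a, b, c, p, q, r} := by
  obtain ⟨p, q, r, h5⟩ := (S.lines a h.ma).five b h.perp_b c h.perp_c h.nbc h.cbc
  obtain ⟨-, m1, m2, m3, hnd⟩ := SixSets.five_trace S.hD h5
  have hone : a * (b * c * (p * q * r)) = 1 :=
    IsT.eq_one S.hD S.hprim S.hZ S.lines h.ma ⟨_, _, _, _, _, h5, rfl⟩
  simp only [List.nodup_cons, List.mem_cons, List.not_mem_nil, or_false, not_or, List.nodup_nil, and_true,
    not_false_eq_true] at hnd
  have hpm : ∀ z ∈ traceClass D a b c, z ∈ six D a b c ∧ z ≠ a ∧ z ≠ b := fun z hz => by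
    rw [← six_trace S h] at hz
    exact ⟨hz.1, by simpa using hz.2⟩
  obtain ⟨hp, pa, pb⟩ := hpm p m1
  obtain ⟨hq, qa, qb⟩ := hpm q m2
  obtain ⟨hr, ra, rb⟩ := hpm r m3
  have h' : Tri D p q r := ⟨hp.1.1, hq.1.1, hr.1.1, hnd.2.1.1, hnd.2.1.2, hnd.2.2, hp.2 q hq.1, hp.2 r hr.1,
    hq.2 r hr.1⟩
  refine ⟨p, q, r, h', ?_, ?_⟩
  · have hsq : a * (b * c) * (a * (b * c)) = 1 := by
      have hcomm : Commute a (b * c) := h.cab.mul_right h.cac
      rw [mul_assoc, ← mul_assoc (b * c) a, ← hcomm.eq, mul_assoc a (b * c), ← mul_assoc, mul_self S.hD.1 h.ma,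
        one_mul, mul_assoc, ← mul_assoc c b, ← h.cbc.eq, mul_assoc b c c, mul_self S.hD.1 h.mc, mul_one,
        mul_self S.hD.1 h.mb]
    have : a * (b * c) * (p * q * r) = 1 := by rw [mul_assoc]; exact hone
    rw [← mul_assoc p]
    exact (eq_inv_of_mul_eq_one_right this).trans (inv_eq_of_mul_eq_one_right hsq)
  · refine (Set.eq_of_subset_of_ncard_le ?_ ?_ (Set.toFinite _)).symm
    · rintro z (rfl | rfl | rfl | rfl | rfl | rfl)
      exacts [h.mem_six (Or.inl rfl), h.mem_six (Or.inr (Or.inl rfl)), h.mem_six (Or.inr (Or.inr rfl)), hp, hq, hr]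
    · rw [ncard_six S h, Set.ncard_insert_of_notMem, Set.ncard_insert_of_notMem, Set.ncard_insert_of_notMem,
        Set.ncard_insert_of_notMem, Set.ncard_pair hnd.2.2]
      · simp [hnd.2.1.1, hnd.2.1.2]
      · simp [hnd.1.1, hnd.1.2.1, hnd.1.2.2]
      · simp [h.nbc, Ne.symm pb, Ne.symm qb, Ne.symm rb]
      · simp [h.nab, h.nac, Ne.symm pa, Ne.symm qa, Ne.symm ra]

include S in
/-- two triples with the same product are equal or disjoint -/
theorem triple_eq {a b c p q r : G} (h : Tri D a b c) (h' : Tri D p q r) (he : a * (b * c) = p * (q * r))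
    (hp : p = a ∨ p = b ∨ p = c) : ({p, q, r} : Set G) = {a, b, c} := by
  have key : ∀ {u v w : G}, Tri D u v w → p = u → u * (v * w) = p * (q * r) → ({p, q, r} : Set G) = {u, v, w} := by
    intro u v w hu hpu heq
    subst hpu
    have hvw : v * w = q * r := mul_left_cancel heq
    have hwp : w ∈ perp D v := ⟨hu.mc, Ne.symm hu.nbc, hu.cbc⟩
    have hrp : r ∈ perp D q := ⟨h'.mc, Ne.symm h'.nbc, h'.cbc⟩
    have hsub : ∀ z ∈ core (tfix D (v * w)), z = v ∨ z = w := fun z hz => by
      have hm : ({v, w} : Set G) ⊆ core (tfix D (v * w)) := by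
        rintro x (rfl | rfl)
        · exact ⟨⟨hu.mb, (Commute.refl _).mul_left hu.cbc.symm⟩, fun y hy =>
            (comm_of_comm_mul S.hD.1 hu.mb hu.mc hy.1 hu.cbc hu.nbc hy.2.symm).1.symm⟩
        · exact ⟨⟨hu.mc, hu.cbc.mul_left (Commute.refl _)⟩, fun y hy =>
            (comm_of_comm_mul S.hD.1 hu.mb hu.mc hy.1 hu.cbc hu.nbc hy.2.symm).2.symm⟩
      have heq' := Set.eq_of_subset_of_ncard_le hm
        (by rw [core_pair S hu.mb hwp, Set.ncard_pair hu.nbc]) (Set.toFinite _)
      rw [← heq'] at hz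
      simpa using hz
    have hq : q ∈ core (tfix D (v * w)) := by
      rw [hvw]
      exact ⟨⟨h'.mb, (Commute.refl _).mul_left h'.cbc.symm⟩, fun y hy =>
        (comm_of_comm_mul S.hD.1 h'.mb h'.mc hy.1 h'.cbc h'.nbc hy.2.symm).1.symm⟩
    have hr : r ∈ core (tfix D (v * w)) := by
      rw [hvw]
      exact ⟨⟨h'.mc, h'.cbc.mul_left (Commute.refl _)⟩, fun y hy =>
        (comm_of_comm_mul S.hD.1 h'.mb h'.mc hy.1 h'.cbc h'.nbc hy.2.symm).2.symm⟩
    rcases hsub q hq with hq' | hq' <;> rcases hsub r hr with hr' | hr'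
    · exact absurd (hq'.trans hr'.symm) h'.nbc
    · rw [hq', hr']
    · rw [hq', hr', Set.pair_comm w v]
    · exact absurd (hq'.trans hr'.symm) h'.nbc
  rcases hp with hp | hp | hp
  · exact key h hp he
  · rw [key (u := b) (v := a) (w := c) ⟨h.mb, h.ma, h.mc, Ne.symm h.nab, h.nbc, h.nac, h.cab.symm, h.cbc, h.cac⟩ hp
      (by rw [← he, ← mul_assoc, ← mul_assoc, h.cab.eq]), Set.insert_comm]
  · rw [key (u := c) (v := a) (w := b) ⟨h.mc, h.ma, h.mb, Ne.symm h.nac, Ne.symm h.nbc, h.nab, h.cac.symm,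
      h.cbc.symm, h.cab⟩ hp (by rw [← he, ← mul_assoc, ← h.cac.eq, mul_assoc, ← h.cbc.eq])]
    ext z
    simp only [Set.mem_insert_iff, Set.mem_singleton_iff]
    tauto

/-- the product of an orbit -/
abbrev orbitProd (y d : G) : G := d * (y * d * y⁻¹ * (y * (y * d * y⁻¹) * y⁻¹))

include S in
/-- a triple whose product is centralised by a freely acting element of order three is an orbit -/
theorem orbitProd_eq {y a b c : G} (hy : y ^ 3 = 1) (hfree : ∀ d ∈ D, ¬ Commute y d) (h : Tri D a b c)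
    (hc : Commute y (a * (b * c))) : orbitProd y a = a * (b * c) ∧ y * a * y⁻¹ ∈ six D a b c := by
  set cj : G → G := fun z => y * z * y⁻¹
  have hinj : Function.Injective cj := fun u v h => by simpa [cj] using h
  have h3 : ∀ z, cj (cj (cj z)) = z := fun z => by
    show y * (y * (y * z * y⁻¹) * y⁻¹) * y⁻¹ = z
    calc y * (y * (y * z * y⁻¹) * y⁻¹) * y⁻¹ = y ^ 3 * z * (y ^ 3)⁻¹ := by simp only [pow_succ, pow_zero, one_mul]; group
      _ = z := by rw [hy]; simp
  have hmove : ∀ z ∈ D, cj z ≠ z := fun z hz h => hfree z hz (mul_inv_eq_iff_eq_mul.mp h)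
  have hTri : ∀ {p q r : G}, Tri D p q r → Tri D (cj p) (cj q) (cj r) := fun {p q r} t =>
    ⟨S.hD.2.1 _ _ t.ma, S.hD.2.1 _ _ t.mb, S.hD.2.1 _ _ t.mc, fun e => t.nab (hinj e), fun e => t.nac (hinj e),
      fun e => t.nbc (hinj e), t.cab.map (MulAut.conj y).toMonoidHom, t.cac.map (MulAut.conj y).toMonoidHom,
      t.cbc.map (MulAut.conj y).toMonoidHom⟩
  have hprod : ∀ p q r : G, p * (q * r) = a * (b * c) → cj p * (cj q * cj r) = a * (b * c) := fun p q r e => by
    show y * p * y⁻¹ * (y * q * y⁻¹ * (y * r * y⁻¹)) = _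
    calc y * p * y⁻¹ * (y * q * y⁻¹ * (y * r * y⁻¹)) = y * (p * (q * r)) * y⁻¹ := by group
      _ = a * (b * c) := by rw [e, hc.eq, mul_inv_cancel_right]
  have h1 := hTri h
  have h2 := hTri h1
  have e1 := hprod a b c rfl
  have e2 := hprod _ _ _ e1
  have key : ∀ {p q r p' q' r' : G}, Tri D p q r → Tri D p' q' r' → p * (q * r) = p' * (q' * r') →
      ∀ z, z ∈ ({p', q', r'} : Set G) → z ∈ ({p, q, r} : Set G) → ({p', q', r'} : Set G) = {p, q, r} := by
    intro p q r p' q' r' t t' e z hz' hz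
    simp only [Set.mem_insert_iff, Set.mem_singleton_iff] at hz hz'
    rcases hz' with h' | h' | h' <;> subst z
    · exact triple_eq S t t' e hz
    · rw [← triple_eq S t (p := q') (q := p') (r := r') ⟨t'.mb, t'.ma, t'.mc, Ne.symm t'.nab, t'.nbc, t'.nac,
        t'.cab.symm, t'.cbc, t'.cac⟩ (by rw [e, ← mul_assoc, ← mul_assoc, t'.cab.eq]) hz, Set.insert_comm]
    · rw [← triple_eq S t (p := r') (q := p') (r := q') ⟨t'.mc, t'.ma, t'.mb, Ne.symm t'.nac, Ne.symm t'.nbc,
        t'.nab, t'.cac.symm, t'.cbc.symm, t'.cab⟩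
        (by rw [e, ← mul_assoc r', ← t'.cac.eq, mul_assoc, ← t'.cbc.eq]) hz]
      ext w
      simp only [Set.mem_insert_iff, Set.mem_singleton_iff]
      tauto
  have hsix : ∀ {p q r : G}, Tri D p q r → p * (q * r) = a * (b * c) → ∀ z ∈ ({p, q, r} : Set G), z ∈ six D a b c := by
    intro p q r t e z hz
    have hcl : cl3 D p q r = cl3 D a b c := by rw [← tfix_prod S t, ← tfix_prod S h, e]
    have : z ∈ six D p q r := t.mem_six (by simpa using hz)
    simpa only [six, hcl] using this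
  obtain ⟨p, q, r, hpqr, hep, hset⟩ := six_complement S h
  set A : Set G := {a, b, c}
  set B : Set G := {p, q, r}
  have hchoice : ∀ {u v w : G}, Tri D u v w → u * (v * w) = a * (b * c) →
      ({u, v, w} : Set G) = A ∨ ({u, v, w} : Set G) = B := by
    intro u v w t e
    have hu : u ∈ six D a b c := hsix t e u (by simp)
    rw [hset] at hu
    rcases hu with hu | hu | hu | hu
    · exact Or.inl (key h t e.symm u (by simp) (by simp [hu]))
    · exact Or.inl (key h t e.symm u (by simp) (by simp [hu]))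
    · exact Or.inl (key h t e.symm u (by simp) (by simp [hu]))
    · exact Or.inr (key hpqr t (hep.trans e.symm) u (by simp) hu)
  have himg : ∀ u v w : G, cj '' ({u, v, w} : Set G) = {cj u, cj v, cj w} := fun u v w => by
    simp [Set.image_insert_eq]
  have hA : cj '' A = A := by
    rcases hchoice h1 e1 with hA1 | hA1
    · rw [himg]; exact hA1
    rcases hchoice h2 e2 with hA2 | hA2
    · -- the square fixes it
      have : cj '' (cj '' (cj '' A)) = A := by
        rw [← Set.image_comp, ← Set.image_comp]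
        conv_rhs => rw [← Set.image_id A]
        exact congrArg (· '' A) (funext h3)
      rw [show cj '' (cj '' A) = A by rw [himg, himg]; exact hA2] at this
      exact this
    · refine Set.image_injective.mpr hinj ?_
      rw [himg a b c, himg]
      exact hA2.trans hA1.symm
  have hmem : ∀ z ∈ A, cj z ∈ A := fun z hz => hA ▸ ⟨z, hz, rfl⟩
  refine ⟨?_, hsix h rfl _ (hmem a (by simp [A]))⟩
  have ha := hmem a (by simp [A])
  simp only [A, Set.mem_insert_iff, Set.mem_singleton_iff] at ha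
  show a * (cj a * cj (cj a)) = _
  rcases ha with ha | ha | ha
  · exact absurd ha (hmove a h.ma)
  · have hb := hmem b (by simp [A])
    simp only [A, Set.mem_insert_iff, Set.mem_singleton_iff] at hb
    rcases hb with hb | hb | hb
    · exfalso
      refine hmove a h.ma ?_
      calc cj a = cj (cj (cj a)) := by rw [ha, hb]; exact ha.symm
        _ = a := h3 a
    · exact absurd hb (hmove b h.mb)
    · rw [ha, hb]
  · have hb := hmem c (by simp [A])
    simp only [A, Set.mem_insert_iff, Set.mem_singleton_iff] at hb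
    rcases hb with hb | hb | hb
    · exfalso
      refine hmove a h.ma ?_
      calc cj a = cj (cj (cj a)) := by rw [ha, hb]; exact ha.symm
        _ = a := h3 a
    · rw [ha, hb, h.cbc.eq]
    · exact absurd hb (hmove c h.mc)

include S in
/-- the number of transpositions moved to commuting ones is six times the number of involutions centralised -/
theorem ncard_moved {y : G} (hy : orderOf y = 3) (hfree : ∀ d ∈ D, ¬ Commute y d) :
    {d | d ∈ D ∧ Commute d (y * d * y⁻¹)}.ncard = 6 * {t | orderOf t = 2 ∧ Commute y t}.ncard := by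
  classical
  have hy3 : y ^ 3 = 1 := hy ▸ pow_orderOf_eq_one y
  set M := {d | d ∈ D ∧ Commute d (y * d * y⁻¹)}
  set I := {t | orderOf t = 2 ∧ Commute y t}
  have hfwd : ∀ d ∈ M, orbitProd y d ∈ I ∧ d ∈ core (tfix D (orbitProd y d)) := by
    rintro d ⟨hd, hc⟩
    set e := y * d * y⁻¹
    set f := y * e * y⁻¹
    have he : e ∈ D := S.hD.2.1 y d hd
    have hf : f ∈ D := S.hD.2.1 y e he
    have hde : d ≠ e := fun h => hfree d hd (mul_inv_eq_iff_eq_mul.mp h.symm)
    have hef : e ≠ f := fun h => hfree e he (mul_inv_eq_iff_eq_mul.mp h.symm)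
    have hfd : y * f * y⁻¹ = d := by
      calc y * f * y⁻¹ = y ^ 3 * d * (y ^ 3)⁻¹ := by simp only [f, e, pow_succ, pow_zero, one_mul]; group
        _ = d := by rw [hy3]; simp
    have cef : Commute e f := hc.map (MulAut.conj y).toMonoidHom
    have cfd : Commute f d := by
      have := cef.map (MulAut.conj y).toMonoidHom
      simpa [← hfd, MulAut.conj_apply, f] using this
    have hdf : d ≠ f := fun h => hfree f hf (mul_inv_eq_iff_eq_mul.mp (hfd.trans h))
    have ht : Tri D d e f := ⟨hd, he, hf, hde, hdf, hef, hc, cfd.symm, cef⟩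
    refine ⟨⟨InvolutionsM22.order_two S (m := 3) (by norm_num) le_rfl
      ⟨[d, e, f], by simp [hde, hdf, hef], rfl, by simp [hd, he, hf],
        by simp [hc, hc.symm, cef, cef.symm, cfd, cfd.symm], by simp [orbitProd, e, f]⟩, ?_⟩, ?_⟩
    · show y * (d * (e * f)) = d * (e * f) * y
      rw [← mul_inv_eq_iff_eq_mul]
      calc y * (d * (e * f)) * y⁻¹ = e * (f * (y * f * y⁻¹)) := by simp only [f, e]; group
        _ = d * (e * f) := by rw [hfd, cfd.eq, ← mul_assoc, ← hc.eq, mul_assoc]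
    · rw [show orbitProd y d = d * (e * f) from rfl, tfix_prod S ht]
      exact ht.mem_six (Or.inl rfl)
  have hfib : ∀ t ∈ I, {d | d ∈ M ∧ orbitProd y d = t} = core (tfix D t) ∧ (core (tfix D t)).ncard = 6 := by
    rintro t ⟨ht, hc⟩
    obtain ⟨a, b, c, h, rfl⟩ := type_three S hy hfree ht hc
    have hcore : core (tfix D (a * (b * c))) = six D a b c := by rw [tfix_prod S h]; rfl
    refine ⟨Set.ext fun d => ⟨fun hd => hd.2 ▸ (hfwd d hd.1).2, fun hd => ?_⟩, by rw [hcore, ncard_six S h]⟩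
    rw [hcore] at hd
    obtain ⟨p, q, r, h', he, hset⟩ := six_complement S h
    have hgen : ∀ {u v w : G}, Tri D u v w → u * (v * w) = a * (b * c) →
        u ∈ M ∧ orbitProd y u = a * (b * c) := fun {u v w} t e => by
      obtain ⟨h1, h2⟩ := orbitProd_eq S hy3 hfree t (by rw [e]; exact hc)
      exact ⟨⟨t.ma, ((t.mem_six (Or.inl rfl)).2 _ h2.1)⟩, h1.trans e⟩
    rw [hset] at hd
    rcases hd with rfl | rfl | rfl | rfl | rfl | rfl
    · exact hgen h rfl
    · exact hgen (u := d) (v := a) (w := c)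
        ⟨h.mb, h.ma, h.mc, Ne.symm h.nab, h.nbc, h.nac, h.cab.symm, h.cbc, h.cac⟩
        (by rw [← mul_assoc, ← mul_assoc, h.cab.eq])
    · exact hgen (u := d) (v := a) (w := b)
        ⟨h.mc, h.ma, h.mb, Ne.symm h.nac, Ne.symm h.nbc, h.nab, h.cac.symm, h.cbc.symm, h.cab⟩
        (by rw [← mul_assoc, ← h.cac.eq, mul_assoc, ← h.cbc.eq])
    · exact hgen h' he
    · exact hgen (u := d) (v := p) (w := r)
        ⟨h'.mb, h'.ma, h'.mc, Ne.symm h'.nab, h'.nbc, h'.nac, h'.cab.symm, h'.cbc, h'.cac⟩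
        (by rw [← he, ← mul_assoc, ← mul_assoc, h'.cab.eq])
    · exact hgen (u := d) (v := p) (w := q)
        ⟨h'.mc, h'.ma, h'.mb, Ne.symm h'.nac, Ne.symm h'.nbc, h'.nab, h'.cac.symm, h'.cbc.symm, h'.cab⟩
        (by rw [← he, ← mul_assoc, ← h'.cac.eq, mul_assoc, ← h'.cbc.eq])
  rw [Set.ncard_eq_toFinset_card M (Set.toFinite _), Set.ncard_eq_toFinset_card I (Set.toFinite _), mul_comm,
    Finset.card_eq_sum_card_fiberwise (f := orbitProd y) (t := (Set.toFinite I).toFinset) fun d hd => by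
      simp only [Set.Finite.coe_toFinset] at hd ⊢
      exact (hfwd d hd).1]
  refine Finset.sum_const_nat fun t ht => ?_
  rw [Set.Finite.mem_toFinset] at ht
  obtain ⟨h1, h2⟩ := hfib t ht
  rw [← h2, ← h1, Set.ncard_eq_toFinset_card _ (Set.toFinite _)]
  congr 1
  ext d
  simp

end Cfsg.Agent.Lib.FischerMTypes.Thirteen
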