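import Mathlib
import Cfsg.Agent.Lib.FischerMTypes.Five.Unitary
import Cfsg.Agent.Lib.UnitaryFour.Counts

/-!
Elements of order three in the six-dimensional unitary group over four elements: an orthogonal
decomposition into three eigenspaces, with the condition on the dimensions from the determinant.
-/

set_option autoImplicit false
set_option linter.style.haveILetI false
set_option linter.unusedSectionVars false

namespace Cfsg.Agent.Lib.FischerMTypes.Thirteen

open Matrix Module Cfsg.Agent.Lib.Unitary Cfsg.Agent.Lib.UnitaryFour.Transvection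
open Cfsg.Agent.Lib.FischerMTypes.Eleven (L det_L)

variable {F : Type*} [Field F] [Fintype F]

local notation "h⟪" u ", " v "⟫" => Cfsg.hermForm 6 F 2 u v

/-- an eigenspace -/
abbrev eig (g : Cfsg.SU 6 F 2) (c : F) : Submodule F (Fin 6 → F) := LinearMap.ker (L g - c • LinearMap.id)

theorem mem_eig {g : Cfsg.SU 6 F 2} {c : F} {v : Fin 6 → F} : v ∈ eig g c ↔ act g v = c • v := by
  simp [eig, LinearMap.mem_ker, sub_eq_zero, Eleven.L_apply]

/-- two cube roots of unity that pair eigenvectors non-trivially are equal -/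
theorem eq_of_herm_ne_zero (hF : Fintype.card F = 2 ^ 2) {g : Cfsg.SU 6 F 2} {c c' : F} (hc' : c' ≠ 0)
    {u v : Fin 6 → F} (hu : act g u = c • u) (hv : act g v = c' • v) (huv : h⟪u, v⟫ ≠ 0) : c = c' := by
  have h := act_herm g u v
  rw [hu, hv, herm_smul_left, herm_smul_right, ← mul_assoc] at h
  have h1 : c * c' ^ 2 = 1 := mul_right_cancel₀ huv (by rw [one_mul]; exact h)
  linear_combination c' * h1 - c * UnitaryFour.Transvection.cube_eq_one hF hc'

/-- the eigen decomposition -/
structure Decomp (g : Cfsg.SU 6 F 2) (cs : Fin 3 → F) (d : Fin 3 → ℕ) (b : (i : Fin 3) → Fin (d i) → Fin 6 → F) :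
    Prop where
  cs_inj : Function.Injective cs
  cs_cube : ∀ i, cs i ^ 3 = 1
  sum_dim : d 0 + d 1 + d 2 = 6
  det_cond : 3 ∣ d 1 + 2 * d 2
  on : ∀ i, Orthonormal' 2 (b i)
  mem : ∀ i k, act g (b i k) = cs i • b i k
  span : ∀ i v, act g v = cs i • v → ∃ y : Fin (d i) → F, v = ∑ k, y k • b i k
  expand : ∀ v, v = ∑ i, ∑ k, h⟪v, b i k⟫ • b i k

theorem exists_decomp (hF : Fintype.card F = 2 ^ 2) {g : Cfsg.SU 6 F 2} (hg : g ^ 3 = 1) :
    ∃ (cs : Fin 3 → F) (d : Fin 3 → ℕ) (b : (i : Fin 3) → Fin (d i) → Fin 6 → F), Decomp g cs d b := by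
  classical
  obtain ⟨w, hw0, hw1, hw⟩ := exists_omega hF
  set cs : Fin 3 → F := ![1, w, w ^ 2]
  have hcube : ∀ i, cs i ^ 3 = 1 := fun i => by
    fin_cases i
    · simp [cs]
    · simpa [cs] using UnitaryFour.Transvection.cube_eq_one hF hw0
    · simpa [cs] using UnitaryFour.Transvection.cube_eq_one hF (pow_ne_zero 2 hw0)
  have hne : ∀ i, cs i ≠ 0 := fun i h => by simpa [h] using hcube i
  have hw2 : w ^ 2 ≠ 1 := fun h => hw0 (by linear_combination hw - h - two_eq_zero hF)
  have hinj : Function.Injective cs := by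
    intro i j hij
    have h12 : w ≠ w ^ 2 := fun h => hw1 (mul_left_cancel₀ hw0 (by rw [mul_one, ← pow_two, ← h]))
    fin_cases i <;> fin_cases j <;> simp_all [cs, eq_comm]
  have hg3 : ∀ v, act g (act g (act g v)) = v := fun v => by
    rw [← act_mul, ← act_mul, show g * g * g = g ^ 3 by rw [pow_succ, pow_two], hg, act_one]
  set P : Fin 3 → (Fin 6 → F) → (Fin 6 → F) := fun i v =>
    v + cs i ^ 2 • act g v + cs i • act g (act g v)
  have hP : ∀ i v, P i v ∈ eig g (cs i) := fun i v => by
    rw [mem_eig]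
    simp only [P, act_add, act_smul, hg3, smul_add, smul_smul]
    rw [show cs i * cs i ^ 2 = 1 by rw [← pow_succ', hcube], one_smul, ← pow_two]
    abel
  have hsum : ∀ v, ∑ i, P i v = v := fun v => by
    simp only [P, Fin.sum_univ_three, cs, Matrix.cons_val_zero, Matrix.cons_val_one, Matrix.cons_val]
    have h4 : (w ^ 2) ^ 2 = w := by linear_combination w * UnitaryFour.Transvection.cube_eq_one hF hw0
    rw [h4]
    linear_combination (norm := module) (hw) • act g v + (hw) • act g (act g v) + (two_eq_zero hF) • v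
  have horth : ∀ i j, i ≠ j → ∀ u ∈ eig g (cs i), ∀ v ∈ eig g (cs j), h⟪u, v⟫ = 0 := by
    intro i j hij u hu v hv
    by_contra h
    exact hij (hinj (eq_of_herm_ne_zero hF (hne j) (mem_eig.mp hu) (mem_eig.mp hv) h))
  have hnd : ∀ i, Nondeg 2 (eig g (cs i)) := by
    intro i u hu h
    refine herm_nondeg_left hF fun v => ?_
    rw [← hsum v, herm_sum_right _ hF]
    refine Finset.sum_eq_zero fun j _ => ?_
    by_cases hij : i = j
    · subst hij; exact h _ (hP i v)
    · exact horth i j hij u hu _ (hP j v)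
  choose b hb hbm hbs using fun i =>
    exists_orthonormal_of_nondeg hF (finrank F (eig g (cs i))) (eig g (cs i)) rfl (hnd i)
  set d : Fin 3 → ℕ := fun i => finrank F (eig g (cs i))
  set B : (Σ i, Fin (d i)) → Fin 6 → F := fun p => b p.1 p.2
  have hon : Orthonormal' 2 B := by
    rintro ⟨i, k⟩ ⟨j, l⟩
    by_cases hij : i = j
    · subst hij
      simpa [B, Sigma.mk.injEq] using hb i k l
    · rw [if_neg fun h => hij (congrArg Sigma.fst h)]
      exact horth i j hij _ (hbm i k) _ (hbm j l)
  have htop : ⊤ ≤ Submodule.span F (Set.range B) := fun v _ => by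
    rw [← hsum v]
    refine Submodule.sum_mem _ fun i _ => ?_
    have : P i v ∈ Submodule.span F (Set.range (b i)) := (hbs i).symm ▸ hP i v
    refine Submodule.span_mono ?_ this
    rintro _ ⟨k, rfl⟩
    exact ⟨⟨i, k⟩, rfl⟩
  let bB : Basis (Σ i, Fin (d i)) F (Fin 6 → F) := Basis.mk (orthonormal_linearIndependent hon) htop
  have hbB : ∀ p, bB p = B p := fun p => Basis.mk_apply _ _ p
  have hcard : d 0 + d 1 + d 2 = 6 := by
    have := Module.finrank_eq_card_basis bB
    rw [finrank_fin_fun, Fintype.card_sigma, Fin.sum_univ_three] at this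
    simpa using this.symm
  have hmat : LinearMap.toMatrix bB bB (L g) = Matrix.diagonal fun p => cs p.1 := by
    ext p q
    rw [LinearMap.toMatrix_apply, show L g (bB q) = cs q.1 • bB q by
        rw [hbB]; exact (Eleven.L_apply _ _).trans (mem_eig.mp (hbm q.1 q.2)), map_smul,
      Basis.repr_self, Finsupp.smul_apply, Finsupp.single_apply, Matrix.diagonal_apply]
    by_cases h : p = q
    · subst h; simp
    · simp [h, Ne.symm h]
  have hdet : w ^ (d 1 + 2 * d 2) = 1 := by
    have h := det_L g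
    rw [← LinearMap.det_toMatrix bB, hmat, Matrix.det_diagonal, Fintype.prod_sigma] at h
    simpa [Fin.prod_univ_three, cs, ← pow_mul, ← pow_add] using h
  refine ⟨cs, d, b, hinj, hcube, hcard, ?_, hb, fun i k => mem_eig.mp (hbm i k), fun i v hv => ?_, fun v => ?_⟩
  · have h3 : orderOf w = 3 := by
      have : Fact (Nat.Prime 3) := ⟨Nat.prime_three⟩
      exact orderOf_eq_prime (UnitaryFour.Transvection.cube_eq_one hF hw0) hw1
    exact (dvd_of_eq h3.symm).trans (orderOf_dvd_of_pow_eq_one hdet)
  · have h : v ∈ Submodule.span F (Set.range (b i)) := (hbs i).symm ▸ mem_eig.mpr hv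
    obtain ⟨y, hy⟩ := (Submodule.mem_span_range_iff_exists_fun F).mp h
    exact ⟨y, hy.symm⟩
  · obtain ⟨y, hy⟩ := (Submodule.mem_span_range_iff_exists_fun F).mp (htop (Submodule.mem_top : v ∈ _))
    have hc : ∀ p, h⟪v, B p⟫ = y p := fun p => by rw [← hy, orthonormal_coeff hon]
    conv_lhs => rw [← hy, Fintype.sum_sigma]
    exact Finset.sum_congr rfl fun i _ => Finset.sum_congr rfl fun k _ => by rw [← hc ⟨i, k⟩]

namespace Decomp

variable {g : Cfsg.SU 6 F 2} {cs : Fin 3 → F} {d : Fin 3 → ℕ} {b : (i : Fin 3) → Fin (d i) → Fin 6 → F}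
  (E : Decomp g cs d b)

include E in
/-- an element with a whole eigenspace is scalar -/
theorem scalar_of_six {i : Fin 3} (h : d i = 6) (v : Fin 6 → F) : act g v = cs i • v := by
  have hsp : Submodule.span F (Set.range (b i)) = ⊤ :=
    (orthonormal_linearIndependent (E.on i)).span_eq_top_of_card_eq_finrank' (by simp [h])
  have hv : v ∈ Submodule.span F (Set.range (b i)) := hsp ▸ Submodule.mem_top
  obtain ⟨y, rfl⟩ := (Submodule.mem_span_range_iff_exists_fun F).mp hv
  rw [← Eleven.L_apply, map_sum, Finset.smul_sum]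
  refine Finset.sum_congr rfl fun k _ => ?_
  rw [map_smul, Eleven.L_apply, E.mem i k, smul_comm]

include E in
theorem exists_index (hF : Fintype.card F = 2 ^ 2) {c : F} (hc : c ≠ 0) : ∃ i, cs i = c := by
  classical
  have hsub : Finset.univ.image cs ⊆ Finset.univ.filter (fun x : F => x ≠ 0) := fun x hx => by
    obtain ⟨i, -, rfl⟩ := Finset.mem_image.mp hx
    exact Finset.mem_filter.mpr ⟨Finset.mem_univ _, fun h => by simpa [h] using E.cs_cube i⟩
  have heq := Finset.eq_of_subset_of_card_le hsub (by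
    rw [Finset.card_image_of_injective _ E.cs_inj, Finset.filter_ne', Finset.card_erase_of_mem (Finset.mem_univ _),
      Finset.card_univ, Finset.card_univ, hF, Fintype.card_fin]
    norm_num)
  obtain ⟨i, -, hi⟩ := Finset.mem_image.mp (heq.symm ▸ Finset.mem_filter.mpr ⟨Finset.mem_univ c, hc⟩)
  exact ⟨i, hi⟩

include E in
theorem orth (hF : Fintype.card F = 2 ^ 2) {i j : Fin 3} (hij : i ≠ j) {u v : Fin 6 → F}
    (hu : act g u = cs i • u) (hv : act g v = cs j • v) : h⟪u, v⟫ = 0 := by
  by_contra h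
  exact hij (E.cs_inj (eq_of_herm_ne_zero hF (fun h => by simpa [h] using E.cs_cube j) hu hv h))

include E in
/-- the isotropic vectors of an eigenspace -/
theorem ncard_null (hF : Fintype.card F = 2 ^ 2) (i : Fin 3) :
    {v | act g v = cs i • v ∧ h⟪v, v⟫ = 0}.ncard = countNull F 2 (d i) := by
  have hli : LinearIndependent F (Sum.elim (![] : Fin 0 → Fin 6 → F) (b i)) :=
    linearIndependent_sum.mpr ⟨linearIndependent_empty_type, orthonormal_linearIndependent (E.on i), by simp⟩
  have h := UnitaryFour.Counts.ncard_iso_span hF ![] (b i) hli (fun a => a.elim0) (E.on i) (fun _ b => b.elim0)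
  rw [pow_zero, one_mul] at h
  rw [← h]
  congr 1
  ext v
  simp only [Set.mem_ofPred_eq, Fin.sum_univ_zero, zero_add]
  refine and_congr_left fun _ => ⟨fun hv => ?_, ?_⟩
  · obtain ⟨y, hy⟩ := E.span i v hv
    exact ⟨![], y, hy⟩
  · rintro ⟨-, y, rfl⟩
    rw [← Eleven.L_apply, map_sum, Finset.smul_sum]
    refine Finset.sum_congr rfl fun k _ => ?_
    rw [map_smul, Eleven.L_apply, E.mem i k, smul_comm]

include E in
/-- orthogonal isotropic vectors of a small eigenspace are parallel -/
theorem parallel (hF : Fintype.card F = 2 ^ 2) {i : Fin 3} (hd : d i ≤ 3) {u v : Fin 6 → F}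
    (hu : act g u = cs i • u) (hv : act g v = cs i • v) (hu0 : u ≠ 0) (huu : h⟪u, u⟫ = 0)
    (hvv : h⟪v, v⟫ = 0) (huv : h⟪u, v⟫ = 0) : ∃ c : F, v = c • u := by
  by_contra hcon
  push Not at hcon
  obtain ⟨x, rfl⟩ := E.span i u hu
  obtain ⟨y, rfl⟩ := E.span i v hv
  have hform : ∀ x y : Fin (d i) → F,
      h⟪∑ k, x k • b i k, ∑ k, y k • b i k⟫ = Cfsg.hermForm (d i) F 2 x y := fun x y => by
    rw [herm_sum_right _ hF]
    simp only [herm_smul_right, orthonormal_coeff (E.on i)]
    exact Finset.sum_congr rfl fun k _ => mul_comm _ _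
  rw [hform] at huu hvv huv
  have hx0 : x ≠ 0 := fun h => hu0 (by simp [h])
  have hli : LinearIndependent F ![x, y] := (LinearIndependent.pair_iff' hx0).mpr fun c hc =>
    hcon c (by rw [← hc, Finset.smul_sum]; simp [smul_smul])
  set W := Submodule.span F (Set.range ![x, y])
  have hW : finrank F W = 2 := by rw [finrank_span_eq_card hli, Fintype.card_fin]
  have hle : W ≤ Cfsg.Agent.Lib.Unitary.perp 2 W := by
    refine Submodule.span_le.mpr ?_
    rintro _ ⟨k, rfl⟩
    refine (mem_perp_span_range hF).mpr fun l => ?_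
    fin_cases k <;> fin_cases l <;> simp [huu, hvv, huv, herm_eq_zero_symm hF huv]
  have h1 := Submodule.finrank_mono hle
  have h2 := finrank_perp hF W
  omega

end Decomp

end Cfsg.Agent.Lib.FischerMTypes.Thirteen
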