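import Mathlib
import Cfsg.Agent.Lib.FischerMTypes.OrderWidth
import Cfsg.Agent.Lib.FischerMTypes.Thirteen.Eigenspace

/-!
Type M(22): the transpositions commuting with an element of order three and with one transposition
centralised by it form a copy of the 45 points of the four-dimensional space, or a complete
multipartite graph with two parts of nine or three parts of three.
-/

set_option autoImplicit false
set_option linter.style.haveILetI false
set_option linter.unusedSectionVars false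

namespace Cfsg.Agent.Lib.FischerMTypes.Thirteen

open Cfsg.Agent.Lib.FischerMTypes.Basic Cfsg.Agent.Lib.FischerMTypes.Primitive
  Cfsg.Agent.Lib.FischerMTypes.PointModel Cfsg.Agent.Lib.FischerMTypes.StabilizerM22
open Cfsg.Agent.Lib.FischerMTypes.TraceCounts (Sys)
open Cfsg.Agent.Lib.Unitary Cfsg.Agent.Lib.UnitaryFour.Transvection

variable {G : Type*} [Group G] [Finite G] {D : Set G}
variable {F : Type} [Field F] [Fintype F]

local notation "h⟪" u ", " v "⟫" => Cfsg.hermForm 6 F 2 u v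

/-- the transpositions centralised by `y` -/
abbrev fixd (D : Set G) (y : G) : Set G := {z | z ∈ D ∧ Commute y z}

/-- those adjacent to `d` -/
abbrev nbr (D : Set G) (y d : G) : Set G := {z | z ∈ perp D d ∧ Commute y z}

/-- the neighbours form the points of a four-dimensional space -/
def TypeFour (D : Set G) (y d : G) : Prop :=
  ∃ b ∈ perp D d, ∃ c ∈ perp D d, ¬ Commute b c ∧
    nbr D y d = {u | u ∈ perp D d ∧ (Commute b u ∧ Commute c u)}

/-- the neighbours form `k` points, complete multipartite with parts of size `q` -/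
def TypeParts (D : Set G) (y d : G) (k q : ℕ) : Prop :=
  (nbr D y d).ncard = k ∧ (∀ u ∈ nbr D y d, {v | v ∈ nbr D y d ∧ v ∈ perp D u}.ncard + q = k) ∧
    ∀ u ∈ nbr D y d, ∀ v ∈ nbr D y d, ∀ w ∈ nbr D y d, v ∉ perp D u → w ∉ perp D v → w ∉ perp D u

theorem countNull_small (hF : Fintype.card F = 2 ^ 2) :
    countNull F 2 0 = 1 ∧ countNull F 2 1 = 1 ∧ countNull F 2 2 = 10 ∧ countNull F 2 3 = 28 := by
  refine ⟨countNull_zero F 2, ?_, (UnitaryFour.Counts.countNull_values hF).2.1,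
    Seven.Herm.card_null_three hF⟩
  rw [countNull_succ_eq hF]
  simp

theorem shape_fin : ∀ a b c : Fin 6, (a : ℕ) + b + c = 6 → ((b : ℕ) + 2 * c) % 3 = 0 →
    ((a : ℕ), (b : ℕ), (c : ℕ)) ∈
      [(4, 1, 1), (1, 4, 1), (1, 1, 4), (3, 3, 0), (3, 0, 3), (0, 3, 3), (2, 2, 2)] := by decide

theorem shape_cases {a b c : ℕ} (ha : a < 6) (hb : b < 6) (hc : c < 6) (h1 : a + b + c = 6)
    (h2 : (b + 2 * c) % 3 = 0) :
    (a = 4 ∧ b = 1 ∧ c = 1) ∨ (b = 4 ∧ a = 1 ∧ c = 1) ∨ (c = 4 ∧ a = 1 ∧ b = 1) ∨ (a = 3 ∧ b = 3 ∧ c = 0) ∨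
      (a = 3 ∧ b = 0 ∧ c = 3) ∨ (a = 0 ∧ b = 3 ∧ c = 3) ∨ (a = 2 ∧ b = 2 ∧ c = 2) := by
  have h := shape_fin ⟨a, ha⟩ ⟨b, hb⟩ ⟨c, hc⟩ h1 h2
  simp only [List.mem_cons, List.not_mem_nil, or_false, Prod.mk.injEq] at h
  rcases h with ⟨rfl, rfl, rfl⟩ | ⟨rfl, rfl, rfl⟩ | ⟨rfl, rfl, rfl⟩ | ⟨rfl, rfl, rfl⟩ | ⟨rfl, rfl, rfl⟩ |
    ⟨rfl, rfl, rfl⟩ | ⟨rfl, rfl, rfl⟩ <;> simp

theorem third_cases : ∀ i j l k : Fin 3, i ≠ j → i ≠ l → j ≠ l → k ≠ i → k = j ∨ k = l := by decide

variable (S : Sys D F)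

include S in
theorem local_type {y d : G} (hy3 : y ^ 3 = 1) (hy : y ≠ 1) (hd : d ∈ D) (hyd : Commute y d) :
    nbr D y d = ∅ ∨ TypeFour D y d ∨ TypeParts D y d 18 9 ∨ TypeParts D y d 9 3 := by
  classical
  set C := S.ctx d hd
  have hF := C.hF
  have hyH : y ∈ Subgroup.closure (perp D d) := by
    rw [centralizer_eq S hd, Subgroup.mem_centralizer_singleton_iff]; exact hyd.eq
  obtain ⟨g, hg⟩ := C.surj (QuotientGroup.mk ⟨y, hyH⟩)
  have hfix : ∀ {v : Fin 6 → F}, h⟪v, v⟫ = 0 → v ≠ 0 →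
      (Commute y (C.pt v) ↔ ∃ c : F, c ≠ 0 ∧ act g v = c • v) := by
    intro v hv hv0
    have h1 : y * C.pt v * y⁻¹ = C.pt (act g v) := C.pt_conj hv hv0 g (k := ⟨y, hyH⟩) hg.symm
    have hgv0 : act g v ≠ 0 := fun h => hv0 (by rw [← act_inv_self g v, h]; simp [act_def])
    rw [← C.pt_eq hv hv0 (by rw [act_herm]; exact hv) hgv0, ← h1]
    exact ⟨fun h => by rw [h.eq, mul_inv_cancel_right], fun h => mul_inv_eq_iff_eq_mul.mp h.symm⟩
  by_cases hne : nbr D y d = ∅
  · exact Or.inl hne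
  refine Or.inr ?_
  have hg3 : g ^ 3 = 1 := by
    obtain ⟨u, hu, hyu⟩ := Set.nonempty_iff_ne_empty.mpr hne
    obtain ⟨v, hv, hv0, rfl⟩ := C.exists_pt hu
    obtain ⟨c, hc, hcv⟩ := (hfix hv hv0).mp hyu
    have hk : g ^ 3 ∈ C.φ.ker := by
      rw [MonoidHom.mem_ker, map_pow, hg, ← QuotientGroup.mk_pow]
      rw [show (⟨y, hyH⟩ : ↥(Subgroup.closure (perp D d))) ^ 3 = 1 from Subtype.ext hy3, QuotientGroup.mk_one]
    obtain ⟨l, hl⟩ := (mem_center_SU_iff hF (by norm_num) _).mp (C.ker hk)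
    have h3v : act (g ^ 3) v = v := by
      rw [pow_succ, pow_two, act_mul, act_mul, hcv, act_smul, hcv, act_smul, act_smul, hcv, smul_smul,
        smul_smul, show c * c * c = c ^ 3 by ring, cube_eq_one hF hc, one_smul]
    have hl1 : l = 1 := smul_left_injective F hv0 (show l • v = (1 : F) • v by
      rw [one_smul]; exact (hl v).symm.trans h3v)
    exact ext' fun x => by rw [act_one]; exact (hl x).trans (by rw [hl1, one_smul])
  obtain ⟨cs, dm, b, E⟩ := exists_decomp hF hg3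
  have hcs0 : ∀ i, cs i ≠ 0 := fun i h => by simpa [h] using E.cs_cube i
  have hcls : ∀ {v : Fin 6 → F}, h⟪v, v⟫ = 0 → v ≠ 0 →
      (Commute y (C.pt v) ↔ ∃ i, act g v = cs i • v) := fun {v} hv hv0 =>
    (hfix hv hv0).trans ⟨fun ⟨c, hc, h⟩ => (E.exists_index hF hc).imp fun i hi => by rw [hi]; exact h,
      fun ⟨i, h⟩ => ⟨cs i, hcs0 i, h⟩⟩
  have hnot6 : ∀ i, dm i ≠ 6 := by
    intro i h6
    have hall : ∀ z ∈ perp D d, Commute y z := fun z hz => by
      obtain ⟨v, hv, hv0, rfl⟩ := C.exists_pt hz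
      exact (hcls hv hv0).mpr ⟨i, E.scalar_of_six h6 v⟩
    rcases center_perp S hd hyH (fun z hz => (hall z hz).eq.symm) with h | h
    · exact hy h
    · rw [h, pow_succ, pow_two, mul_self S.hD.1 hd, one_mul] at hy3
      exact hy (h.trans hy3)
  have hdim := E.sum_dim
  have hdet := E.det_cond
  have hshape : (∃ i j l, i ≠ j ∧ i ≠ l ∧ j ≠ l ∧ dm i = 4 ∧ dm j = 1 ∧ dm l = 1) ∨
      ((∀ i, dm i = 3 ∨ dm i = 0) ∨ ∀ i, dm i = 2) := by
    have h0 := hnot6 0
    have h1 := hnot6 1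
    have h2 := hnot6 2
    rcases shape_cases (a := dm 0) (b := dm 1) (c := dm 2) (by omega) (by omega) (by omega) hdim (by omega)
      with h | h | h | h | h | h | h
    · exact Or.inl ⟨0, 1, 2, by decide, by decide, by decide, h⟩
    · exact Or.inl ⟨1, 0, 2, by decide, by decide, by decide, h⟩
    · exact Or.inl ⟨2, 0, 1, by decide, by decide, by decide, h⟩
    · exact Or.inr (Or.inl fun i => by fin_cases i <;> simp [h.1, h.2.1, h.2.2])
    · exact Or.inr (Or.inl fun i => by fin_cases i <;> simp [h.1, h.2.1, h.2.2])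
    · exact Or.inr (Or.inl fun i => by fin_cases i <;> simp [h.1, h.2.1, h.2.2])
    · exact Or.inr (Or.inr fun i => by fin_cases i <;> simp [h.1, h.2.1, h.2.2])
  rcases hshape with ⟨i, j, l, hij, hil, hjl, hi, hj, hl⟩ | hsmall
  · -- the four-dimensional type
    refine Or.inl ?_
    obtain ⟨w, hw0, hw1, hw⟩ := exists_omega hF
    set w₁ := b j ⟨0, by omega⟩
    set w₂ := b l ⟨0, by omega⟩
    have h11 : h⟪w₁, w₁⟫ = 1 := by simpa using E.on j ⟨0, by omega⟩ ⟨0, by omega⟩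
    have h22 : h⟪w₂, w₂⟫ = 1 := by simpa using E.on l ⟨0, by omega⟩ ⟨0, by omega⟩
    have h12 : h⟪w₁, w₂⟫ = 0 := E.orth hF hjl (E.mem j _) (E.mem l _)
    have h21 : h⟪w₂, w₁⟫ = 0 := herm_eq_zero_symm hF h12
    set e₀ := w₁ + w₂
    set f₀ := w₁ + w • w₂
    have hee : h⟪e₀, e₀⟫ = 0 := by
      simp only [e₀, herm_add_left, herm_add_right _ _ _ hF, h11, h22, h12, h21, add_zero, zero_add]
      linear_combination two_eq_zero hF
    have hff : h⟪f₀, f₀⟫ = 0 := by
      simp only [f₀, herm_add_left, herm_add_right _ _ _ hF, herm_smul_left, herm_smul_right, h11, h22, h12,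
        h21, mul_zero, add_zero, zero_add, mul_one, mul_one]
      linear_combination two_eq_zero hF + UnitaryFour.Transvection.cube_eq_one hF hw0
    have hef : h⟪e₀, f₀⟫ = w := by
      simp only [e₀, f₀, herm_add_left, herm_add_right _ _ _ hF, herm_smul_right, h11, h22, h12, h21,
        mul_zero, add_zero, zero_add, mul_one]
      linear_combination hw - w * two_eq_zero hF
    have he0 : e₀ ≠ 0 := fun h => hw0 (by rw [← hef, h, herm_zero_left])
    have hf0 : f₀ ≠ 0 := fun h => hw0 (by rw [← hef, h, herm_zero_right _ hF])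
    refine ⟨_, C.pt_mem hee he0, _, C.pt_mem hff hf0, fun h => hw0 (hef ▸ (C.pt_comm hee he0 hff hf0).mp h),
      Set.ext fun z => ?_⟩
    constructor
    · rintro ⟨hz, hyz⟩
      obtain ⟨v, hv, hv0, rfl⟩ := C.exists_pt hz
      obtain ⟨k, hk⟩ := (hcls hv hv0).mp hyz
      have hki : k = i := by
        by_contra hki
        obtain ⟨x, hx⟩ := E.span k v hk
        have hd1 : dm k = 1 := by
          rcases (third_cases i j l k hij hil hjl hki) with rfl | rfl <;>
            assumption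
        have hk0 : ∀ t : Fin (dm k), t = ⟨0, by omega⟩ := fun t => Fin.ext (by omega)
        rw [Finset.sum_eq_single (⟨0, by omega⟩ : Fin (dm k)) (fun t _ ht => absurd (hk0 t) ht)
          (fun h => absurd (Finset.mem_univ _) h)] at hx
        rw [hx, herm_smul_left, herm_smul_right] at hv
        have h1 := E.on k ⟨0, by omega⟩ ⟨0, by omega⟩
        rw [if_pos rfl] at h1
        rw [h1, mul_one] at hv
        refine hv0 ?_
        rw [hx]
        rcases mul_eq_zero.mp hv with h | h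
        · rw [h, zero_smul]
        · rw [pow_eq_zero_iff two_ne_zero |>.mp h, zero_smul]
      subst hki
      have o1 := E.orth hF hij hk (E.mem j ⟨0, by omega⟩)
      have o2 := E.orth hF hil hk (E.mem l ⟨0, by omega⟩)
      exact ⟨hz, (C.pt_comm hee he0 hv hv0).mpr (herm_eq_zero_symm hF (by
          show h⟪v, w₁ + w₂⟫ = 0
          rw [herm_add_right _ _ _ hF, o1, o2, add_zero])),
        (C.pt_comm hff hf0 hv hv0).mpr (herm_eq_zero_symm hF (by
          show h⟪v, w₁ + w • w₂⟫ = 0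
          rw [herm_add_right _ _ _ hF, herm_smul_right, o1, o2, mul_zero, add_zero]))⟩
    · rintro ⟨hz, c1, c2⟩
      obtain ⟨v, hv, hv0, rfl⟩ := C.exists_pt hz
      have k1 := herm_eq_zero_symm hF ((C.pt_comm hee he0 hv hv0).mp c1)
      have k2 := herm_eq_zero_symm hF ((C.pt_comm hff hf0 hv hv0).mp c2)
      simp only [e₀, f₀, herm_add_right _ _ _ hF, herm_smul_right] at k1 k2
      have o2 : h⟪v, w₂⟫ = 0 := (mul_eq_zero.mp (show (w ^ 2 - 1) * h⟪v, w₂⟫ = 0 by
        linear_combination k2 - k1)).resolve_left fun h => hw0 (by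
          linear_combination hw - h - two_eq_zero hF)
      have o1 : h⟪v, w₁⟫ = 0 := by rw [o2, add_zero] at k1; exact k1
      refine ⟨hz, (hcls hv hv0).mpr ⟨i, ?_⟩⟩
      have hexp : v = ∑ t, h⟪v, b i t⟫ • b i t := by
        conv_lhs => rw [E.expand v]
        refine Finset.sum_eq_single i (fun k _ hki => Finset.sum_eq_zero fun t _ => ?_) (by simp)
        have h0 : h⟪v, b k t⟫ = 0 := by
          rcases (third_cases i j l k hij hil hjl hki) with rfl | rfl
          · rw [show t = ⟨0, by omega⟩ from Fin.ext (by omega)]; exact o1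
          · rw [show t = ⟨0, by omega⟩ from Fin.ext (by omega)]; exact o2
        rw [h0, zero_smul]
      rw [hexp, ← Eleven.L_apply, map_sum, Finset.smul_sum]
      refine Finset.sum_congr rfl fun t _ => ?_
      rw [map_smul, Eleven.L_apply, E.mem i t, smul_comm]
  · -- the multipartite types
    refine Or.inr ?_
    have hle : ∀ i, dm i ≤ 3 := fun i => by
      rcases hsmall with h | h
      · rcases h i with h | h <;> omega
      · have := h i; omega
    obtain ⟨c0, -, c2, c3⟩ := countNull_small (F := F) hF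
    obtain ⟨N, hN, hN'⟩ : ∃ N : ℕ, (N = 9 ∨ N = 27) ∧ ((∀ i, countNull F 2 (dm i) = 1 ∨ countNull F 2 (dm i) = N + 1) ∧
        (countNull F 2 (dm 0) - 1) + (countNull F 2 (dm 1) - 1) + (countNull F 2 (dm 2) - 1) =
          if N = 9 then 27 else 54) := by
      rcases hsmall with h | h
      · refine ⟨27, Or.inr rfl, fun i => (h i).elim (fun e => Or.inr (by rw [e, c3])) (fun e => Or.inl (by rw [e, c0])), ?_⟩
        rcases h 0 with a | a <;> rcases h 1 with a' | a' <;> rcases h 2 with a'' | a'' <;>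
          rw [a, a', a''] at hdim ⊢ <;> simp [c0, c3] at hdim ⊢
      · exact ⟨9, Or.inl rfl, fun i => Or.inr (by rw [h i, c2]), by rw [h 0, h 1, h 2, c2]; norm_num⟩
    set V : Fin 3 → Set (Fin 6 → F) := fun i => {v | act g v = cs i • v ∧ h⟪v, v⟫ = 0} \ {0}
    have hV : ∀ i, (V i).ncard = countNull F 2 (dm i) - 1 := fun i => by
      rw [Set.ncard_sdiff_singleton_of_mem, E.ncard_null hF i]
      exact ⟨by simp [act_def], herm_zero_left _⟩
    have hdis : ∀ i k, i ≠ k → Disjoint (V i) (V k) := fun i k hik => Set.disjoint_left.mpr fun v hv hv' =>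
      hik (E.cs_inj (smul_left_injective F (show v ≠ 0 from hv.2) (hv.1.1.symm.trans hv'.1.1)))
    have hrel : ∀ {v x : Fin 6 → F} {i k : Fin 3}, v ∈ V i → x ∈ V k →
        (C.pt x ∈ perp D (C.pt v) ↔ i ≠ k) := by
      intro v x i k hv hx
      have hv0 : v ≠ 0 := hv.2
      have hx0 : x ≠ 0 := hx.2
      constructor
      · rintro ⟨-, hne', hc⟩ rfl
        obtain ⟨c, hc'⟩ := E.parallel hF (hle i) hv.1.1 hx.1.1 hv0 hv.1.2 hx.1.2
          ((C.pt_comm hv.1.2 hv0 hx.1.2 hx0).mp hc)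
        exact hne' ((C.pt_eq hv.1.2 hv0 hx.1.2 hx0).mpr
          ⟨c, fun h => hx0 (by rw [hc', h, zero_smul]), hc'⟩).symm
      · intro hik
        refine ⟨(C.pt_mem hx.1.2 hx0).1, fun h => ?_, (C.pt_comm hv.1.2 hv0 hx.1.2 hx0).mpr
          (E.orth hF hik hv.1.1 hx.1.1)⟩
        obtain ⟨c, -, hc'⟩ := (C.pt_eq hv.1.2 hv0 hx.1.2 hx0).mp h.symm
        refine Set.disjoint_left.mp (hdis i k hik) (show x ∈ V i from ⟨⟨?_, hx.1.2⟩, hx0⟩) hx
        rw [hc', act_smul, hv.1.1, smul_comm]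
    have hpts : ∀ u ∈ nbr D y d, ∃ v i, v ∈ V i ∧ C.pt v = u := fun u hu => by
      obtain ⟨v, hv, hv0, rfl⟩ := C.exists_pt hu.1
      obtain ⟨i, hi⟩ := (hcls hv hv0).mp hu.2
      exact ⟨v, i, ⟨⟨hi, hv⟩, hv0⟩, rfl⟩
    have hcount : 3 * (nbr D y d).ncard = (V 0 ∪ V 1 ∪ V 2).ncard := by
      rw [C.three_mul_ncard (fun u => Commute y u)]
      congr 1
      ext v
      simp only [Set.mem_ofPred_eq, Set.mem_union]
      constructor
      · rintro ⟨hv, hv0, hc⟩
        obtain ⟨i, hi⟩ := (hcls hv hv0).mp hc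
        fin_cases i
        exacts [Or.inl (Or.inl ⟨⟨hi, hv⟩, hv0⟩), Or.inl (Or.inr ⟨⟨hi, hv⟩, hv0⟩), Or.inr ⟨⟨hi, hv⟩, hv0⟩]
      · rintro ((h | h) | h) <;> exact ⟨h.1.2, h.2, (hcls h.1.2 h.2).mpr ⟨_, h.1.1⟩⟩
    have hsum3 : (V 0 ∪ V 1 ∪ V 2).ncard = if N = 9 then 27 else 54 := by
      rw [Set.ncard_union_eq ((hdis 0 2 (by decide)).union_left (hdis 1 2 (by decide))) (Set.toFinite _) (Set.toFinite _),
        Set.ncard_union_eq (hdis 0 1 (by decide)) (Set.toFinite _) (Set.toFinite _), hV, hV, hV]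
      exact hN'.2
    have hpart : ∀ u ∈ nbr D y d, 3 * {v | v ∈ nbr D y d ∧ v ∈ perp D u}.ncard + N = if N = 9 then 27 else 54 := by
      intro u hu
      obtain ⟨v, i, hv, rfl⟩ := hpts u hu
      have hVi : (V i).ncard = N := by
        have h1 : (V i).ncard ≠ 0 := fun h => by
          rw [Set.ncard_eq_zero] at h
          exact Set.eq_empty_iff_forall_notMem.mp h v hv
        rcases hN'.1 i with h | h <;> rw [hV, h] at h1 ⊢ <;> omega
      rw [show {x | x ∈ nbr D y d ∧ x ∈ perp D (C.pt v)} =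
          {x | x ∈ perp D d ∧ (Commute y x ∧ x ∈ perp D (C.pt v))} from Set.ext fun x => and_assoc,
        C.three_mul_ncard (fun x => Commute y x ∧ x ∈ perp D (C.pt v)), ← hsum3]
      have hset : {x | h⟪x, x⟫ = 0 ∧ x ≠ 0 ∧ (Commute y (C.pt x) ∧ C.pt x ∈ perp D (C.pt v))} =
          (V 0 ∪ V 1 ∪ V 2) \ V i := by
        ext x
        constructor
        · rintro ⟨hx, hx0, hc, hp⟩
          obtain ⟨k, hk⟩ := (hcls hx hx0).mp hc
          refine ⟨by
            fin_cases k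
            exacts [Or.inl (Or.inl ⟨⟨hk, hx⟩, hx0⟩), Or.inl (Or.inr ⟨⟨hk, hx⟩, hx0⟩),
              Or.inr ⟨⟨hk, hx⟩, hx0⟩], fun hxi => ?_⟩
          exact (hrel hv hxi).mp hp rfl
        · rintro ⟨hx, hxi⟩
          obtain ⟨k, hk⟩ : ∃ k, x ∈ V k := by rcases hx with (h | h) | h <;> exact ⟨_, h⟩
          exact ⟨hk.1.2, hk.2, (hcls hk.1.2 hk.2).mpr ⟨k, hk.1.1⟩, (hrel hv hk).mpr fun e => hxi (e ▸ hk)⟩
      rw [hset]
      have hsub : V i ⊆ V 0 ∪ V 1 ∪ V 2 := by
        intro x hx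
        fin_cases i
        exacts [Or.inl (Or.inl hx), Or.inl (Or.inr hx), Or.inr hx]
      have := Set.ncard_sdiff_add_ncard_of_subset hsub (Set.toFinite _)
      omega
    have htrans : ∀ u ∈ nbr D y d, ∀ v ∈ nbr D y d, ∀ w ∈ nbr D y d,
        v ∉ perp D u → w ∉ perp D v → w ∉ perp D u := by
      intro u hu v hv w hw
      obtain ⟨u', i, hu', rfl⟩ := hpts u hu
      obtain ⟨v', k, hv', rfl⟩ := hpts v hv
      obtain ⟨w', m, hw', rfl⟩ := hpts w hw
      rw [hrel hu' hv', hrel hv' hw', hrel hu' hw']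
      simp only [not_not]
      exact fun a b => a.trans b
    rw [hsum3] at hcount
    rcases hN with rfl | rfl
    · rw [if_pos rfl] at hcount
      refine Or.inr ⟨by omega, fun u hu => ?_, htrans⟩
      have := hpart u hu
      rw [if_pos rfl] at this
      omega
    · rw [if_neg (by norm_num : ¬ (27 : ℕ) = 9)] at hcount
      refine Or.inl ⟨by omega, fun u hu => ?_, htrans⟩
      have := hpart u hu
      rw [if_neg (by norm_num : ¬ (27 : ℕ) = 9)] at this
      omega

end Cfsg.Agent.Lib.FischerMTypes.Thirteen
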