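import Mathlib
import Cfsg.Agent.Lib.FischerMTypes.OrderWidth
import Cfsg.Agent.Lib.UnitaryFour.PointStab
import Cfsg.Agent.Lib.Unitary.Simple

/-!
Type M(22): the 45 transpositions commuting with a commuting-away pair inside one perp set form the
quadrangle of the four-dimensional unitary space: common neighbours and transitivity.
-/

set_option autoImplicit false
set_option linter.style.haveILetI false
set_option linter.unusedSectionVars false

namespace Cfsg.Agent.Lib.FischerMTypes.Thirteen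

open Cfsg.Agent.Lib.FischerMTypes.Basic Cfsg.Agent.Lib.FischerMTypes.Primitive
  Cfsg.Agent.Lib.FischerMTypes.PointModel
open Cfsg.Agent.Lib.Unitary Cfsg.Agent.Lib.UnitaryFour.Transvection Cfsg.Agent.Lib.UnitaryFour.Stabilizer
open Module Matrix

variable {G : Type*} [Group G] [Finite G] {D : Set G}
variable {F : Type} [Field F] [Fintype F]

local notation "h⟪" u ", " v "⟫" => Cfsg.hermForm 6 F 2 u v
local notation "k⟪" u ", " v "⟫" => Cfsg.hermForm 4 F 2 u v

/-- the members of `perp D a` commuting with both -/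
abbrev quad (D : Set G) (a b c : G) : Set G := {u | u ∈ perp D a ∧ (Commute b u ∧ Commute c u)}

/-- the isotropic vectors orthogonal to a hyperbolic pair of the four-dimensional space -/
theorem four_hyp (hF : Fintype.card F = 2 ^ 2) {u v : Fin 4 → F} (h : Hyp 2 u v) :
    {x | k⟪x, u⟫ = 0 ∧ k⟪x, v⟫ = 0 ∧ k⟪x, x⟫ = 0}.ncard = 10 := by
  obtain ⟨g, hg, hgo, hli⟩ : ∃ g : Fin 2 → Fin 4 → F, Orthonormal' 2 g ∧
      (∀ i, k⟪g i, u⟫ = 0 ∧ k⟪g i, v⟫ = 0) ∧ LinearIndependent F (Sum.elim ![u, v] g) := h.exists_complement hF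
  have hspan : ∀ x, k⟪x, u⟫ = 0 → k⟪x, v⟫ = 0 → x = ∑ t, k⟪x, g t⟫ • g t := by
    intro x hxu hxv
    refine sub_eq_zero.mp (herm_nondeg_left hF fun z => ?_)
    have hz : z ∈ Submodule.span F (Set.range (Sum.elim ![u, v] g)) := by
      rw [hli.span_eq_top_of_card_eq_finrank' (by simp)]; exact Submodule.mem_top
    induction hz using Submodule.span_induction with
    | mem z hz =>
      obtain ⟨j, rfl⟩ := hz
      rw [herm_sub_left, sub_eq_zero]
      rcases j with j | j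
      · fin_cases j
        · simp [hxu, herm_add_left, herm_smul_left, (hgo _).1]
        · simp [hxv, herm_add_left, herm_smul_left, (hgo _).2]
      · simp only [Sum.elim_inr, orthonormal_coeff hg]
    | zero => exact herm_zero_right _ hF
    | add a b _ _ ha hb => rw [herm_add_right _ _ _ hF, ha, hb, add_zero]
    | smul a u _ hu => rw [herm_smul_right, hu, mul_zero]
  have hform : ∀ y : Fin 2 → F, k⟪∑ t, y t • g t, ∑ t, y t • g t⟫ = Cfsg.hermForm 2 F 2 y y := fun y => by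
    rw [herm_sum_right _ hF]
    simp only [herm_smul_right, orthonormal_coeff hg]
    exact Finset.sum_congr rfl fun t _ => mul_comm _ _
  rw [← (UnitaryFour.Counts.countNull_values (F := F) hF).2.1, countNull, ← Nat.card_coe_set_eq]
  refine (Nat.card_eq_of_bijective (fun y : {y : Fin 2 → F // Cfsg.hermForm 2 F 2 y y = 0} =>
    (⟨∑ t, y.1 t • g t, by simp [herm_add_left, herm_smul_left, (hgo _).1],
      by simp [herm_add_left, herm_smul_left, (hgo _).2], by rw [hform]; exact y.2⟩ :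
      {x | k⟪x, u⟫ = 0 ∧ k⟪x, v⟫ = 0 ∧ k⟪x, x⟫ = 0})) ⟨fun y z h => ?_, fun x => ?_⟩).symm
  · exact Subtype.ext (funext fun t => by
      rw [← orthonormal_coeff hg y.1 t, ← orthonormal_coeff hg z.1 t]
      exact congrArg (fun r => k⟪r, g t⟫) (congrArg Subtype.val h))
  · refine ⟨⟨fun t => k⟪x.1, g t⟫, ?_⟩, Subtype.ext (hspan x.1 x.2.1 x.2.2.1).symm⟩
    rw [← hform, ← hspan x.1 x.2.1 x.2.2.1]
    exact x.2.2.2

/-- the isotropic vectors orthogonal to two orthogonal isotropic vectors of the four-dimensional space -/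
theorem four_line (hF : Fintype.card F = 2 ^ 2) {u v : Fin 4 → F} (hli : LinearIndependent F ![u, v])
    (hu : k⟪u, u⟫ = 0) (hv : k⟪v, v⟫ = 0) (huv : k⟪u, v⟫ = 0) :
    {x | k⟪x, u⟫ = 0 ∧ k⟪x, v⟫ = 0 ∧ k⟪x, x⟫ = 0}.ncard = 16 := by
  set W := Submodule.span F (Set.range ![u, v])
  have hW : finrank F W = 2 := by rw [finrank_span_eq_card hli, Fintype.card_fin]
  have hperp : Cfsg.Agent.Lib.Unitary.perp 2 W = W := by
    refine (Submodule.eq_of_le_of_finrank_le ?_ ?_).symm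
    · refine Submodule.span_le.mpr ?_
      rintro _ ⟨i, rfl⟩
      refine (mem_perp_span_range hF).mpr fun l => ?_
      fin_cases i <;> fin_cases l <;> simp [hu, hv, huv, herm_eq_zero_symm hF huv]
    · have := finrank_perp hF W
      omega
  have hset : {x | k⟪x, u⟫ = 0 ∧ k⟪x, v⟫ = 0 ∧ k⟪x, x⟫ = 0} = (W : Set (Fin 4 → F)) := by
    ext x
    constructor
    · intro hx
      rw [SetLike.mem_coe, ← hperp]
      refine (mem_perp_span_range hF).mpr fun l => ?_
      fin_cases l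
      · simpa using hx.1
      · simpa using hx.2.1
    · intro hx
      rw [SetLike.mem_coe, ← hperp] at hx
      have h1 := (mem_perp_span_range hF).mp hx
      refine ⟨by simpa using h1 0, by simpa using h1 1, ?_⟩
      rw [hperp] at hx
      obtain ⟨c, rfl⟩ := (Submodule.mem_span_range_iff_exists_fun F).mp hx
      simp [Fin.sum_univ_two, herm_add_left, herm_add_right _ _ _ hF, herm_smul_left, herm_smul_right, hu, hv,
        huv, herm_eq_zero_symm hF huv]
  rw [hset, ← Nat.card_coe_set_eq, SetLike.coe_sort_coe, Module.natCard_eq_pow_finrank (K := F), hW,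
    Nat.card_eq_fintype_card, hF]
  norm_num

variable {a : G} (C : Ctx D a F)
variable {e f : Fin 6 → F} {g : Fin 4 → Fin 6 → F}

/-- the point of a vector of the four-dimensional space -/
noncomputable abbrev pt4 (C : Ctx D a F) (g : Fin 4 → Fin 6 → F) (x : Fin 4 → F) : G := C.pt (lin g x)

variable (hfr : Frame e f g)

include hfr in
theorem pt4_facts {x : Fin 4 → F} (hx : k⟪x, x⟫ = 0) (hx0 : x ≠ 0) :
    h⟪lin g x, lin g x⟫ = 0 ∧ lin g x ≠ 0 ∧ pt4 C g x ∈ quad D a (C.pt e) (C.pt f) := by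
  have h1 : h⟪lin g x, lin g x⟫ = 0 := by rw [hfr.lin_herm C.hF, hx]
  have h2 : lin g x ≠ 0 := fun h => hx0 (UnitaryFour.PointStab.lin_inj hfr (by rw [h, UnitaryFour.PointStab.lin_zero]))
  have he0 : e ≠ 0 := fun h => by
    have := hfr.hyp.2.2; rw [h, herm_zero_left] at this; exact zero_ne_one this
  have hf0 : f ≠ 0 := fun h => by
    have := hfr.hyp.2.2; rw [h, herm_zero_right _ C.hF] at this; exact zero_ne_one this
  refine ⟨h1, h2, C.pt_mem h1 h2, (C.pt_comm hfr.hyp.1 he0 h1 h2).mpr (herm_eq_zero_symm C.hF (hfr.lin_orth x).1),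
    (C.pt_comm hfr.hyp.2.1 hf0 h1 h2).mpr (herm_eq_zero_symm C.hF (hfr.lin_orth x).2)⟩

include hfr in
theorem exists_pt4 {z : G} (hz : z ∈ quad D a (C.pt e) (C.pt f)) :
    ∃ x, k⟪x, x⟫ = 0 ∧ x ≠ 0 ∧ pt4 C g x = z := by
  obtain ⟨v, hv, hv0, rfl⟩ := C.exists_pt hz.1
  have he0 : e ≠ 0 := fun h => by
    have := hfr.hyp.2.2; rw [h, herm_zero_left] at this; exact zero_ne_one this
  have hf0 : f ≠ 0 := fun h => by
    have := hfr.hyp.2.2; rw [h, herm_zero_right _ C.hF] at this; exact zero_ne_one this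
  have o1 := herm_eq_zero_symm C.hF ((C.pt_comm hfr.hyp.1 he0 hv hv0).mp hz.2.1)
  have o2 := herm_eq_zero_symm C.hF ((C.pt_comm hfr.hyp.2.1 hf0 hv hv0).mp hz.2.2)
  have hexp := hfr.expand C.hF v
  rw [o1, o2, zero_smul, zero_smul, zero_add, zero_add] at hexp
  refine ⟨fun i => h⟪v, g i⟫, ?_, fun h => hv0 ?_, by rw [pt4, ← hexp]⟩
  · rw [← hfr.lin_herm C.hF, ← hexp, hv]
  · rw [hexp, h, UnitaryFour.PointStab.lin_zero]

include hfr in
theorem pt4_comm {x y : Fin 4 → F} (hx : k⟪x, x⟫ = 0) (hx0 : x ≠ 0) (hy : k⟪y, y⟫ = 0) (hy0 : y ≠ 0) :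
    Commute (pt4 C g x) (pt4 C g y) ↔ k⟪x, y⟫ = 0 := by
  obtain ⟨a1, a2, -⟩ := pt4_facts C hfr hx hx0
  obtain ⟨b1, b2, -⟩ := pt4_facts C hfr hy hy0
  rw [C.pt_comm a1 a2 b1 b2, hfr.lin_herm C.hF]

include hfr in
theorem pt4_eq {x y : Fin 4 → F} (hx : k⟪x, x⟫ = 0) (hx0 : x ≠ 0) (hy : k⟪y, y⟫ = 0) (hy0 : y ≠ 0) :
    pt4 C g x = pt4 C g y ↔ ∃ c : F, c ≠ 0 ∧ y = c • x := by
  obtain ⟨a1, a2, -⟩ := pt4_facts C hfr hx hx0
  obtain ⟨b1, b2, -⟩ := pt4_facts C hfr hy hy0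
  rw [C.pt_eq a1 a2 b1 b2]
  exact exists_congr fun c => and_congr_right fun _ => by
    rw [← lin_smul]
    exact ⟨fun h => UnitaryFour.PointStab.lin_inj hfr h, fun h => h ▸ rfl⟩

include hfr in
/-- numbers of points of the quadrangle -/
theorem three_mul_quad (P : G → Prop) :
    3 * {z | z ∈ quad D a (C.pt e) (C.pt f) ∧ P z}.ncard =
      {x : Fin 4 → F | k⟪x, x⟫ = 0 ∧ x ≠ 0 ∧ P (pt4 C g x)}.ncard := by
  have h := C.three_mul_ncard (fun z => (Commute (C.pt e) z ∧ Commute (C.pt f) z) ∧ P z)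
  rw [show {z | z ∈ quad D a (C.pt e) (C.pt f) ∧ P z} =
    {z | z ∈ perp D a ∧ ((Commute (C.pt e) z ∧ Commute (C.pt f) z) ∧ P z)} from Set.ext fun z => and_assoc, h,
    ← Set.ncard_image_of_injective {x : Fin 4 → F | k⟪x, x⟫ = 0 ∧ x ≠ 0 ∧ P (pt4 C g x)}
      (fun x y (h : lin g x = lin g y) => UnitaryFour.PointStab.lin_inj hfr h)]
  congr 1
  ext v
  constructor
  · rintro ⟨hv, hv0, hc, hP⟩
    have he0 : e ≠ 0 := fun h => by
      have := hfr.hyp.2.2; rw [h, herm_zero_left] at this; exact zero_ne_one this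
    have hf0 : f ≠ 0 := fun h => by
      have := hfr.hyp.2.2; rw [h, herm_zero_right _ C.hF] at this; exact zero_ne_one this
    have o1 := herm_eq_zero_symm C.hF ((C.pt_comm hfr.hyp.1 he0 hv hv0).mp hc.1)
    have o2 := herm_eq_zero_symm C.hF ((C.pt_comm hfr.hyp.2.1 hf0 hv hv0).mp hc.2)
    have hexp := hfr.expand C.hF v
    rw [o1, o2, zero_smul, zero_smul, zero_add, zero_add] at hexp
    refine ⟨fun i => h⟪v, g i⟫, ⟨?_, fun h => hv0 ?_, ?_⟩, hexp.symm⟩
    · rw [← hfr.lin_herm C.hF, ← hexp, hv]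
    · rw [hexp, h, UnitaryFour.PointStab.lin_zero]
    · rw [pt4, ← hexp]; exact hP
  · rintro ⟨x, ⟨hx, hx0, hP⟩, rfl⟩
    obtain ⟨h1, h2, h3⟩ := pt4_facts C hfr hx hx0
    exact ⟨h1, h2, h3.2, hP⟩

include C in
/-- two points of the quadrangle have three common neighbours -/
theorem ncard_quad_common {b c p q : G} (hb : b ∈ perp D a) (hc : c ∈ perp D a) (hbc : ¬ Commute b c)
    (hp : p ∈ quad D a b c) (hq : q ∈ quad D a b c) (hne : p ≠ q) :
    {z | z ∈ quad D a b c ∧ (z ∈ perp D p ∧ z ∈ perp D q)}.ncard = 3 := by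
  classical
  obtain ⟨e, f, hef, he0, hf0, rfl, rfl⟩ := C.exists_hyp_pt hb hc hbc
  obtain ⟨g, hfr⟩ := exists_Frame C.hF hef
  obtain ⟨u, hu, hu0, rfl⟩ := exists_pt4 C hfr hp
  obtain ⟨v, hv, hv0, rfl⟩ := exists_pt4 C hfr hq
  have hli : LinearIndependent F ![u, v] := (LinearIndependent.pair_iff' hu0).mpr fun l hl =>
    hne ((pt4_eq C hfr hu hu0 hv hv0).mpr ⟨l, fun h => hv0 (by rw [← hl, h, zero_smul]), hl.symm⟩)
  have h := three_mul_quad C hfr (fun z => z ∈ perp D (pt4 C g u) ∧ z ∈ perp D (pt4 C g v))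
  set Z := {x | k⟪x, u⟫ = 0 ∧ k⟪x, v⟫ = 0 ∧ k⟪x, x⟫ = 0}
  set X : Set (Fin 4 → F) := Set.range (fun l : F => l • u) ∪ Set.range (fun l : F => l • v)
  have hset : {x : Fin 4 → F | k⟪x, x⟫ = 0 ∧ x ≠ 0 ∧
      (pt4 C g x ∈ perp D (pt4 C g u) ∧ pt4 C g x ∈ perp D (pt4 C g v))} = Z \ X := by
    ext x
    constructor
    · rintro ⟨hx, hx0, ⟨-, n1, c1⟩, -, n2, c2⟩
      refine ⟨⟨herm_eq_zero_symm C.hF ((pt4_comm C hfr hu hu0 hx hx0).mp c1),
        herm_eq_zero_symm C.hF ((pt4_comm C hfr hv hv0 hx hx0).mp c2), hx⟩, ?_⟩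
      rintro (⟨l, rfl⟩ | ⟨l, rfl⟩)
      · exact n1 ((pt4_eq C hfr hu hu0 hx hx0).mpr ⟨l, fun h => hx0 (by simp [h]), rfl⟩).symm
      · exact n2 ((pt4_eq C hfr hv hv0 hx hx0).mpr ⟨l, fun h => hx0 (by simp [h]), rfl⟩).symm
    · rintro ⟨⟨o1, o2, hx⟩, hX⟩
      have hx0 : x ≠ 0 := fun h => hX (Or.inl ⟨0, by simp [h]⟩)
      have hm : pt4 C g x ∈ D := (pt4_facts C hfr hx hx0).2.2.1.1
      refine ⟨hx, hx0, ⟨hm, fun h => ?_, (pt4_comm C hfr hu hu0 hx hx0).mpr (herm_eq_zero_symm C.hF o1)⟩,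
        hm, fun h => ?_, (pt4_comm C hfr hv hv0 hx hx0).mpr (herm_eq_zero_symm C.hF o2)⟩
      · obtain ⟨l, -, e'⟩ := (pt4_eq C hfr hu hu0 hx hx0).mp h.symm
        exact hX (Or.inl ⟨l, e'.symm⟩)
      · obtain ⟨l, -, e'⟩ := (pt4_eq C hfr hv hv0 hx hx0).mp h.symm
        exact hX (Or.inr ⟨l, e'.symm⟩)
  rw [hset] at h
  have hinter : Set.range (fun l : F => l • u) ∩ Set.range (fun l : F => l • v) = {0} := by
    ext x
    constructor
    · rintro ⟨⟨l, rfl⟩, m, hm⟩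
      have := (LinearIndependent.pair_iff.mp hli l (-m) (by
        rw [neg_smul, show m • v = l • u from hm, add_neg_cancel])).1
      simp [this]
    · rintro rfl
      exact ⟨⟨0, by simp⟩, ⟨0, by simp⟩⟩
  have hX7 : X.ncard = 7 := by
    have h1 := Set.ncard_union_add_ncard_inter (Set.range (fun l : F => l • u)) (Set.range (fun l : F => l • v))
      (Set.toFinite _) (Set.toFinite _)
    rw [hinter, Set.ncard_singleton, Set.ncard_range_of_injective (smul_left_injective F hu0),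
      Set.ncard_range_of_injective (smul_left_injective F hv0), Nat.card_eq_fintype_card, C.hF] at h1
    show (Set.range (fun l : F => l • u) ∪ Set.range (fun l : F => l • v)).ncard = 7
    omega
  by_cases huv : k⟪u, v⟫ = 0
  · have hsub : X ⊆ Z := by
      rintro _ (⟨l, rfl⟩ | ⟨l, rfl⟩)
      · exact ⟨by simp [herm_smul_left, hu], by simp [herm_smul_left, huv],
          by simp [herm_smul_left, herm_smul_right, hu]⟩
      · exact ⟨by simp [herm_smul_left, herm_eq_zero_symm C.hF huv], by simp [herm_smul_left, hv],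
          by simp [herm_smul_left, herm_smul_right, hv]⟩
    have h2 := Set.ncard_sdiff_add_ncard_of_subset hsub (Set.toFinite _)
    rw [hX7, show Z.ncard = 16 from four_line C.hF hli hu hv huv] at h2
    omega
  · set l := k⟪u, v⟫
    have hl : l ≠ 0 := huv
    have hyp : Hyp 2 u (l • v) := ⟨hu, by simp [herm_smul_left, herm_smul_right, hv], by
      rw [herm_smul_right, mul_comm]; exact norm_eq_one C.hF hl⟩
    have hZ : Z.ncard = 10 := by
      rw [← four_hyp C.hF hyp]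
      congr 1
      ext x
      simp only [Z, Set.mem_ofPred_eq, herm_smul_right, mul_eq_zero, pow_eq_zero_iff two_ne_zero, hl, false_or]
    have hdiff : Z \ X = Z \ {0} := by
      ext x
      refine and_congr_right fun hx => ?_
      constructor
      · exact fun h h0 => h (Or.inl ⟨0, (zero_smul F u).trans (Set.mem_singleton_iff.mp h0).symm⟩)
      · rintro h (⟨m, rfl⟩ | ⟨m, rfl⟩)
        · have := hx.2.1
          rw [herm_smul_left] at this
          exact h (by simp [(mul_eq_zero.mp this).resolve_right hl])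
        · have := hx.1
          rw [herm_smul_left] at this
          exact h (by simp [(mul_eq_zero.mp this).resolve_right fun h0 => hl (herm_eq_zero_symm C.hF h0)])
    rw [hdiff, Set.ncard_sdiff_singleton_of_mem (show (0 : Fin 4 → F) ∈ Z from
      ⟨herm_zero_left _, herm_zero_left _, herm_zero_left _⟩), hZ] at h
    omega

/-- products of transvections fixing the pair are products of points of the quadrangle -/
theorem exists_mk_quad (he : h⟪e, e⟫ = 0) (he0 : e ≠ 0) (hf : h⟪f, f⟫ = 0) (hf0 : f ≠ 0)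
    {s : Cfsg.SU 6 F 2} (hs : s ∈ tvPerp C.hF {e, f}) :
    ∃ k : ↥(Subgroup.closure (perp D a)), QuotientGroup.mk k = C.φ s ∧
      (k : G) ∈ Subgroup.closure (quad D a (C.pt e) (C.pt f)) := by
  induction hs using Subgroup.closure_induction with
  | mem t ht =>
    obtain ⟨u, hu, hu0, hS, rfl⟩ := ht
    refine ⟨⟨C.pt u, Subgroup.subset_closure (C.pt_mem hu hu0)⟩, C.pt_im hu hu0,
      Subgroup.subset_closure ⟨C.pt_mem hu hu0, (C.pt_comm he he0 hu hu0).mpr
        (herm_eq_zero_symm C.hF (hS e (by simp))), (C.pt_comm hf hf0 hu hu0).mpr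
        (herm_eq_zero_symm C.hF (hS f (by simp)))⟩⟩
  | one => exact ⟨1, (map_one C.φ).symm, one_mem _⟩
  | mul x y _ _ ihx ihy =>
    obtain ⟨k, hk, hkm⟩ := ihx
    obtain ⟨l, hl, hlm⟩ := ihy
    exact ⟨k * l, by rw [map_mul, ← hk, ← hl]; rfl, mul_mem hkm hlm⟩
  | inv x _ ih =>
    obtain ⟨k, hk, hkm⟩ := ih
    exact ⟨k⁻¹, by rw [map_inv, ← hk]; rfl, inv_mem hkm⟩

include C in
/-- the stabiliser of a point is transitive on the points not commuting with it -/
theorem quad_move {b c p x y : G} (hb : b ∈ perp D a) (hc : c ∈ perp D a) (hbc : ¬ Commute b c)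
    (hp : p ∈ quad D a b c) (hx : x ∈ quad D a b c) (hy : y ∈ quad D a b c)
    (hpx : ¬ Commute p x) (hpy : ¬ Commute p y) :
    ∃ k ∈ Subgroup.closure (quad D a b c), k * p * k⁻¹ = p ∧ k * x * k⁻¹ = y := by
  obtain ⟨e, f, hef, he0, hf0, rfl, rfl⟩ := C.exists_hyp_pt hb hc hbc
  obtain ⟨g, hfr⟩ := exists_Frame C.hF hef
  obtain ⟨u, hu, hu0, rfl⟩ := exists_pt4 C hfr hp
  obtain ⟨v, hv, hv0, rfl⟩ := exists_pt4 C hfr hx
  obtain ⟨w, hw, hw0, rfl⟩ := exists_pt4 C hfr hy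
  have hnorm : ∀ {z : Fin 4 → F}, k⟪z, z⟫ = 0 → z ≠ 0 → ¬ Commute (pt4 C g u) (pt4 C g z) →
      Hyp 2 u (k⟪u, z⟫ • z) ∧ pt4 C g (k⟪u, z⟫ • z) = pt4 C g z := by
    intro z hz hz0 hnc
    have hl : k⟪u, z⟫ ≠ 0 := fun h => hnc ((pt4_comm C hfr hu hu0 hz hz0).mpr h)
    refine ⟨⟨hu, by simp [herm_smul_left, herm_smul_right, hz], by
      rw [herm_smul_right, mul_comm]; exact norm_eq_one C.hF hl⟩, ?_⟩
    exact ((pt4_eq C hfr hz hz0 (by simp [herm_smul_left, herm_smul_right, hz]) (smul_ne_zero hl hz0)).mpr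
      ⟨_, hl, rfl⟩).symm
  obtain ⟨hv', ev⟩ := hnorm hv hv0 hpx
  obtain ⟨hw', ew⟩ := hnorm hw hw0 hpy
  obtain ⟨A, hdet, hAu, hAv⟩ := exists_SU_hyp C.hF (by norm_num) hv' hw'
  set A' : Cfsg.SU 4 F 2 := ⟨⟨A.1.1, hdet⟩, A.2⟩
  obtain ⟨s, hs, hsA⟩ := exists_actsAs C.hF hfr A'
  obtain ⟨k, hk, hkm⟩ := exists_mk_quad C hef.1 he0 hef.2.1 hf0 hs
  have hmove : ∀ {z : Fin 4 → F}, k⟪z, z⟫ = 0 → z ≠ 0 →
      (k : G) * pt4 C g z * (k : G)⁻¹ = pt4 C g (A.1.1 *ᵥ z) := fun {z} hz hz0 => by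
    obtain ⟨h1, h2, -⟩ := pt4_facts C hfr hz hz0
    show (k : G) * C.pt (lin g z) * (k : G)⁻¹ = C.pt (lin g _)
    rw [C.pt_conj h1 h2 s hk, hsA.2.2 z]
  refine ⟨k, hkm, by rw [hmove hu hu0, hAu], ?_⟩
  rw [← ev, ← ew, hmove hv'.2.1 (smul_ne_zero (fun h => hpx ((pt4_comm C hfr hu hu0 hv hv0).mpr h)) hv0), hAv]

end Cfsg.Agent.Lib.FischerMTypes.Thirteen
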