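import Mathlib
import Cfsg.Agent.Lib.FischerMTypes.Primitive

/-!
Closed sets of 3-transpositions: paths of length three shorten, and a set that is locally complete
multipartite falls into components of a fixed size.
-/

set_option autoImplicit false
set_option linter.style.haveILetI false
set_option linter.unusedSectionVars false

namespace Cfsg.Agent.Lib.FischerMTypes.Thirteen

open Cfsg.Agent.Lib.FischerMTypes.Basic Cfsg.Agent.Lib.FischerMTypes.Primitive

variable {G : Type*} [Group G] [Finite G] {T : Set G}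

/-- a path of three commuting steps between non-commuting ends has a common neighbour -/
theorem exists_shortcut (hT : IsClosedSet T) {d u w e : G} (hd : d ∈ T) (hu : u ∈ T) (hw : w ∈ T) (he : e ∈ T)
    (du : Commute d u) (uw : Commute u w) (we : Commute w e) (ue : ¬ Commute u e)
    (de : ¬ Commute d e) : ∃ q ∈ T, q ≠ d ∧ q ≠ e ∧ Commute q d ∧ Commute q e := by
  have hm : ∀ {z : G}, z ∈ T → z * z = 1 := fun hz => mul_self hT.1 hz
  set r := u * (e * d * e) * u
  have hr : r ∈ T := hT.2 u hu _ (hT.2 e he d hd)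
  have hdud : u * d * u = d := conj_fix_of_commute hT.1 hu du.symm
  have hudu : d * u * d = u := conj_fix_of_commute hT.1 hd du
  have h1 : r * d * r = u * e * u := by
    calc r * d * r = u * e * d * e * (u * d * u) * e * d * e * u := by simp only [r, mul_assoc]
      _ = u * ((e * d) ^ 3) * e * u := by rw [hdud, pow_succ, pow_two]; simp only [mul_assoc]
      _ = u * e * u := by rw [cube_eq_one hT.1 he hd fun h => de h.symm, mul_one]
  have h2 : r * e * r = e := by
    calc r * e * r = u * e * d * e * (u * e * u) * e * d * e * u := by simp only [r, mul_assoc]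
      _ = u * e * d * (e * e) * u * (e * e) * d * e * u := by
          rw [braid hT.1 hu he ue]; simp only [mul_assoc]
      _ = u * e * (d * u * d) * e * u := by rw [hm he, mul_one, mul_one]; simp only [mul_assoc]
      _ = (u * e) ^ 3 * e := by
          rw [hudu, pow_succ, pow_two]
          simp only [mul_assoc, hm he, mul_one]
      _ = e := by rw [cube_eq_one hT.1 hu he ue, one_mul]
  refine ⟨r * w * r, hT.2 r hr w hw, fun h => ?_, fun h => ?_, ?_, ?_⟩
  · have hw' : w = u * e * u := by rw [← h1, ← h, conj_self_inv hT.1 hr]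
    refine ue ?_
    have := uw
    rw [hw'] at this
    have h3 : u * (u * e * u) = u * e * u * u := this.eq
    rw [mul_assoc _ u u, hm hu, mul_one, ← mul_assoc, ← mul_assoc, hm hu, one_mul] at h3
    exact h3.symm
  · have hw' : w = e := by rw [← conj_self_inv hT.1 hr w, h, h2]
    exact ue (hw' ▸ uw)
  · rw [← conj_self_inv hT.1 hr d, h1]
    exact (conj_comm_iff hT.1 hr).mpr ((uw.symm.mul_right we).mul_right uw.symm)
  · rw [← conj_self_inv hT.1 hr e, h2]
    exact (conj_comm_iff hT.1 hr).mpr we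

/-- locally complete multipartite, `k` neighbours, parts of size `q < k` -/
theorem dvd_of_parts {D : Set G} (hTD : T ⊆ D) {k q : ℕ} (hqk : q < k)
    (hk : ∀ d ∈ T, {e | e ∈ T ∧ e ∈ perp D d}.ncard = k)
    (hlam : ∀ d ∈ T, ∀ u ∈ T, u ∈ perp D d → {v | v ∈ T ∧ v ∈ perp D d ∧ v ∈ perp D u}.ncard + q = k)
    (htr : ∀ d ∈ T, ∀ u ∈ T, ∀ v ∈ T, ∀ w ∈ T, u ∈ perp D d → v ∈ perp D d → w ∈ perp D d →
      v ∉ perp D u → w ∉ perp D v → w ∉ perp D u) : k + q ∣ T.ncard := by
  classical
  let N : G → Set G := fun d => {e | e ∈ T ∧ e ∈ perp D d}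
  have hsymm : ∀ {d e : G}, d ∈ T → e ∈ N d → d ∈ N e := fun hd he =>
    ⟨hd, hTD hd, Ne.symm he.2.2.1, he.2.2.2.symm⟩
  have hirr : ∀ d : G, d ∉ N d := fun d h => h.2.2.1 rfl
  have hns : ∀ {a b : G}, a ∈ T → b ∈ T → b ∉ perp D a → a ∉ perp D b := fun ha hb h h' =>
    h (hsymm hb ⟨ha, h'⟩).2
  have twin : ∀ d ∈ T, ∀ e ∈ N d, ∀ z ∈ N e, z ∉ perp D d → N z = N d := by
    intro d hd e he z hz hzd
    have hdz := hns hd hz.1 hzd
    have step : ∀ w ∈ T, w ∈ perp D e → w ∈ N d → w ∈ N z := fun w hw hwe hwd => by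
      by_contra hwz
      exact htr e he.1 d hd z hz.1 w hw (hsymm hd he).2 hz.2 hwe hzd (fun h => hwz ⟨hw, h⟩) hwd.2
    have hsub : N d ⊆ N z := by
      intro u hu
      by_cases hue : u ∈ perp D e
      · exact step u hu.1 hue hu
      obtain ⟨w, hw, hwd, hwe⟩ := Set.nonempty_of_ncard_ne_zero
        (s := {v | v ∈ T ∧ v ∈ perp D d ∧ v ∈ perp D e}) (by have := hlam d hd e he.1 he.2; omega)
      have hwu : u ∈ perp D w := by
        by_contra huw
        exact htr d hd e he.1 u hu.1 w hw he.2 hu.2 hwd hue (hns hw hu.1 huw) hwe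
      have hwz : w ∈ N z := step w hw hwe ⟨hw, hwd⟩
      by_contra huz
      exact htr w hw d hd z hz.1 u hu.1 (hsymm hd ⟨hw, hwd⟩).2 (hsymm hz.1 hwz).2 hwu hzd
        (fun h => huz ⟨hu.1, h⟩) hu.2
    exact (Set.eq_of_subset_of_ncard_le hsub
      (le_of_eq ((hk z hz.1).trans (hk d hd).symm)) (Set.toFinite _)).symm
  let Tw : G → Set G := fun d => {z | z ∈ T ∧ N z = N d}
  let Cp : G → Set G := fun d => Tw d ∪ N d
  have hTw : ∀ d ∈ T, (Tw d).ncard = q := by
    intro d hd
    obtain ⟨e, he⟩ : (N d).Nonempty := Set.nonempty_of_ncard_ne_zero (by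
      show {e | e ∈ T ∧ e ∈ perp D d}.ncard ≠ 0
      rw [hk d hd]; omega)
    have hset : Tw d = N e \ {v | v ∈ T ∧ v ∈ perp D d ∧ v ∈ perp D e} := by
      ext z
      constructor
      · rintro ⟨hz, hN⟩
        exact ⟨hsymm hz (hN.symm ▸ he), fun h => hirr z (hN ▸ ⟨hz, h.2.1⟩)⟩
      · rintro ⟨hz, hn⟩
        exact ⟨hz.1, twin d hd e he z hz fun h => hn ⟨hz.1, h, hz.2⟩⟩
    have h1 := Set.ncard_sdiff_add_ncard_of_subset
      (s := {v | v ∈ T ∧ v ∈ perp D d ∧ v ∈ perp D e}) (t := N e) (fun v hv => ⟨hv.1, hv.2.2⟩) (Set.toFinite _)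
    have h2 : (N e).ncard = k := hk e he.1
    have h3 := hlam d hd e he.1 he.2
    rw [hset]
    omega
  have hcard : ∀ d ∈ T, (Cp d).ncard = k + q := fun d hd => by
    show (Tw d ∪ N d).ncard = k + q
    rw [Set.ncard_union_eq (Set.disjoint_left.mpr fun z (hz : z ∈ Tw d) (hz' : z ∈ N d) => hirr z (hz.2.symm ▸ hz')) (Set.toFinite _)
      (Set.toFinite _), hTw d hd, show (N d).ncard = k from hk d hd, add_comm q k]
  have hcls : ∀ d ∈ T, ∀ z ∈ Cp d, Cp z = Cp d := by
    intro d hd z hz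
    rcases hz with hz | hz
    · show Tw z ∪ N z = Tw d ∪ N d
      rw [hz.2, show Tw z = Tw d from Set.ext fun w => and_congr_right fun _ => by rw [hz.2]]
    · have hsub : Cp z ⊆ Cp d := by
        rintro v (hv | hv)
        · have hdv : d ∈ N v := hv.2.symm ▸ hsymm hd hz
          exact Or.inr (hsymm hv.1 hdv)
        · by_cases hvd : v ∈ perp D d
          · exact Or.inr ⟨hv.1, hvd⟩
          · exact Or.inl ⟨hv.1, twin d hd z hz v hv hvd⟩
      exact Set.eq_of_subset_of_ncard_le hsub (by rw [hcard d hd, hcard z hz.1]) (Set.toFinite _)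
  have : Fintype T := Fintype.ofFinite T
  rw [Set.ncard_eq_toFinset_card T (Set.toFinite _), Finset.card_eq_sum_card_image Cp]
  refine Finset.dvd_sum fun s hs => ?_
  obtain ⟨d, hd, rfl⟩ := Finset.mem_image.mp hs
  rw [Set.Finite.mem_toFinset] at hd
  refine dvd_of_eq ?_
  rw [← hcard d hd, Set.ncard_eq_toFinset_card (Cp d) (Set.toFinite _)]
  congr 1
  ext z
  simp only [Finset.mem_filter, Set.Finite.mem_toFinset]
  constructor
  · exact fun hz => ⟨hz.elim (fun h => h.1) (fun h => h.1), hcls d hd z hz⟩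
  · rintro ⟨hz, he⟩
    rw [← he]
    exact Or.inl ⟨hz, rfl⟩

end Cfsg.Agent.Lib.FischerMTypes.Thirteen
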