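import Mathlib
import Cfsg.Agent.Lib.FischerMTypes.Large.Tools
import Cfsg.Agent.Lib.FischerMTypes.Thirteen.Bound
import Cfsg.Agent.Lib.FischerMTypes.Thirteen.Local
import Cfsg.Agent.Lib.FischerMTypes.Thirteen.Quadrangle
import Cfsg.Agent.Lib.FischerMTypes.Thirteen.Regular

/-!
Type M(22): an element of order three commuting with an element of order 13 centralises no
transposition.
-/

set_option autoImplicit false
set_option linter.style.haveILetI false
set_option linter.unusedSectionVars false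

namespace Cfsg.Agent.Lib.FischerMTypes.Thirteen

open Cfsg.Agent.Lib.FischerMTypes.Basic Cfsg.Agent.Lib.FischerMTypes.Primitive Cfsg.Agent.Lib.FischerMTypes.Levels
  Cfsg.Agent.Lib.FischerMTypes.PointModel
open Cfsg.Agent.Lib.FischerMTypes.TraceCounts (Sys)

variable {G : Type*} [Group G] [Finite G] {D : Set G}
variable {F : Type} [Field F] [Fintype F]
variable (S : Sys D F)

theorem fixd_closed (hD : Cfsg.IsThreeTranspositionGroup D) (y : G) : IsClosedSet (fixd D y) :=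
  ⟨⟨fun x hx => hD.1.1 x hx.1, fun x hx z hz => hD.1.2 x hx.1 z hz.1⟩,
    fun g hg d hd => ⟨(closed hD).2 g hg.1 d hd.1, (hg.2.mul_right hd.2).mul_right hg.2⟩⟩

theorem nbr_eq {y d : G} : nbr D y d = {e | e ∈ fixd D y ∧ e ∈ perp D d} :=
  Set.ext fun _ => ⟨fun h => ⟨⟨h.1.1, h.2⟩, h.1⟩, fun h => ⟨h.2, h.1.2⟩⟩

theorem mem_nbr_symm {y d e : G} (hd : d ∈ fixd D y) (he : e ∈ nbr D y d) : d ∈ nbr D y e :=
  ⟨⟨hd.1, Ne.symm he.1.2.1, he.1.2.2.symm⟩, hd.2⟩

/-- conjugation by an element centralising `y` -/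
theorem nbr_conj (hD : Cfsg.IsThreeTranspositionGroup D) {y g d z : G} (hg : Commute y g) :
    g * z * g⁻¹ ∈ nbr D y (g * d * g⁻¹) ↔ z ∈ nbr D y d := by
  refine and_congr (conj_mem_perp_iff hD g d z) ⟨fun h => ?_, fun h => (hg.mul_right h).mul_right hg.inv_right⟩
  have := (hg.inv_right.mul_right h).mul_right hg
  simpa [mul_assoc] using this

theorem ncard_nbr_conj (hD : Cfsg.IsThreeTranspositionGroup D) {y g d : G} (hg : Commute y g) :
    (nbr D y (g * d * g⁻¹)).ncard = (nbr D y d).ncard := by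
  have h : nbr D y (g * d * g⁻¹) = (fun z => g * z * g⁻¹) '' nbr D y d := by
    ext z
    constructor
    · intro hz
      refine ⟨g⁻¹ * z * g, (nbr_conj hD hg).mp ?_, by group⟩
      simpa [mul_assoc] using hz
    · rintro ⟨w, hw, rfl⟩
      exact (nbr_conj hD hg).mpr hw
  rw [h, Set.ncard_image_of_injective _ fun u v h => by simpa using h]

/-- common neighbours inside the centraliser of `y` -/
abbrev meet (D : Set G) (y d e : G) : Set G := nbr D y d ∩ nbr D y e

include S in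
theorem quad_facts {y d : G} (hd : d ∈ D) (h : TypeFour D y d) :
    (nbr D y d).ncard = 45 ∧ (∀ u ∈ nbr D y d, {v | v ∈ nbr D y d ∧ v ∈ perp D u}.ncard = 12) ∧
      (∀ u ∈ nbr D y d, ∀ v ∈ nbr D y d, u ≠ v →
        {z | z ∈ nbr D y d ∧ (z ∈ perp D u ∧ z ∈ perp D v)}.ncard = 3) ∧
      ∀ p ∈ nbr D y d, ∀ x ∈ nbr D y d, ∀ x' ∈ nbr D y d, ¬ Commute p x → ¬ Commute p x' →
        ∃ g, Commute y g ∧ g * d * g⁻¹ = d ∧ g * p * g⁻¹ = p ∧ g * x * g⁻¹ = x' := by
  obtain ⟨b, hb, c, hc, hbc, he⟩ := h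
  have C := S.ctx d hd
  refine ⟨by rw [he, C.ncard_nonedge hb hc hbc], fun u hu => ?_, fun u hu v hv hne => ?_,
    fun p hp x hx x' hx' hpx hpx' => ?_⟩
  · have hu' : u ∈ quad D d b c := (Set.ext_iff.mp he u).mp hu
    rw [he, ← C.ncard_nonedge_point hb hc hbc hu'.1 hu'.2.1 hu'.2.2]
    congr 1
    ext v
    constructor
    · rintro ⟨⟨hv, c1, c2⟩, -, hne, hcc⟩
      exact ⟨hv, hne, c1, c2, hcc⟩
    · rintro ⟨hv, hne, c1, c2, hcc⟩
      exact ⟨⟨hv, c1, c2⟩, hv.1, hne, hcc⟩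
  · rw [he] at hu hv ⊢
    exact ncard_quad_common C hb hc hbc hu hv hne
  · have hquad : quad D d b c = nbr D y d := he.symm
    obtain ⟨g, hg, h1, h2⟩ := quad_move C hb hc hbc ((Set.ext_iff.mp he _).mp hp) ((Set.ext_iff.mp he _).mp hx)
      ((Set.ext_iff.mp he _).mp hx') hpx hpx'
    rw [hquad] at hg
    refine ⟨g, commute_closure (fun s hs => hs.2) g hg, ?_, h1, h2⟩
    rw [← (commute_closure (u := d) (fun s hs => hs.1.2.2) g hg).eq, mul_inv_cancel_right]

include S in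
/-- an element of order three commuting with one of order 13 centralises no transposition -/
theorem no_fixed {x y : G} (hx : orderOf x = 13) (hy : orderOf y = 3) (hxy : Commute x y)
    (hfree : ∀ d ∈ D, ¬ Commute x d) : ∀ d ∈ D, ¬ Commute y d := by
  intro d₀ hd₀ hc₀
  classical
  have hp13 : Fact (Nat.Prime 13) := ⟨by norm_num⟩
  have hy3 : y ^ 3 = 1 := hy ▸ pow_orderOf_eq_one y
  have hy1 : y ≠ 1 := fun h => by rw [h, orderOf_one] at hy; norm_num at hy
  have hx13 : x ^ 13 = 1 := hx ▸ pow_orderOf_eq_one x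
  set T := fixd D y
  have hT : IsClosedSet T := fixd_closed S.hD y
  have hxT : ∀ t ∈ T, x * t * x⁻¹ ∈ T := fun t ht =>
    ⟨S.hD.2.1 x t ht.1, (hxy.symm.mul_right ht.2).mul_right hxy.symm.inv_right⟩
  have hdvd : ∀ U : Set G, U ⊆ T → (∀ t ∈ U, x * t * x⁻¹ ∈ U) → 13 ∣ U.ncard := fun U hU hst => by
    by_contra h
    obtain ⟨t, ht, hc⟩ := Large.exists_fixed_elem hx13 hst h
    exact hfree t (hU ht).1 hc
  have h13 : 13 ∣ T.ncard := hdvd T subset_rfl hxT
  have hne : T.Nonempty := ⟨d₀, hd₀, hc₀⟩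
  have hpos : 0 < T.ncard := (Set.ncard_pos (Set.toFinite _)).mpr hne
  -- the size of the local set
  have hsize : ∀ {d : G}, d ∈ T → (nbr D y d).ncard = 0 ∨
      ((nbr D y d).ncard = 45 ∧ TypeFour D y d ∧ ∀ u ∈ nbr D y d, {v | v ∈ nbr D y d ∧ v ∈ perp D u}.ncard = 12) ∨
      ((nbr D y d).ncard = 18 ∧ TypeParts D y d 18 9) ∨ ((nbr D y d).ncard = 9 ∧ TypeParts D y d 9 3) := by
    intro d hd
    rcases local_type S hy3 hy1 hd.1 hd.2 with h | h | h | h
    · exact Or.inl (by rw [h, Set.ncard_empty])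
    · obtain ⟨h1, h2, -⟩ := quad_facts S hd.1 h
      exact Or.inr (Or.inl ⟨h1, h, h2⟩)
    · exact Or.inr (Or.inr (Or.inl ⟨h.1, h⟩))
    · exact Or.inr (Or.inr (Or.inr ⟨h.1, h⟩))
  have hsame : ∀ {d e : G}, d ∈ T → e ∈ T → (nbr D y d).ncard = (nbr D y e).ncard := by
    intro d e hd he
    by_cases hde : d = e
    · rw [hde]
    by_cases hc : Commute d e
    · have hed : e ∈ nbr D y d := ⟨⟨he.1, Ne.symm hde, hc⟩, he.2⟩
      have hde' := mem_nbr_symm hd hed
      have hl : {v | v ∈ nbr D y d ∧ v ∈ perp D e}.ncard = {v | v ∈ nbr D y e ∧ v ∈ perp D d}.ncard := by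
        congr 1
        exact Set.ext fun v => ⟨fun h => ⟨⟨h.2, h.1.2⟩, h.1.1⟩, fun h => ⟨⟨h.2, h.1.2⟩, h.1.1⟩⟩
      have h1 : (nbr D y d).ncard ≠ 0 := ((Set.ncard_pos (Set.toFinite _)).mpr ⟨e, hed⟩).ne'
      have h2 : (nbr D y e).ncard ≠ 0 := ((Set.ncard_pos (Set.toFinite _)).mpr ⟨d, hde'⟩).ne'
      rcases hsize hd with a | ⟨a, -, a'⟩ | ⟨a, a'⟩ | ⟨a, a'⟩ <;>
        rcases hsize he with b | ⟨b, -, b'⟩ | ⟨b, b'⟩ | ⟨b, b'⟩
      all_goals first
        | omega
        | (have p := a' e hed; have q := b'.2.1 d hde'; omega)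
        | (have p := a'.2.1 e hed; have q := b' d hde'; omega)
        | (have p := a'.2.1 e hed; have q := b'.2.1 d hde'; omega)
    · have hr : Commute y (d * e) := hd.2.mul_right he.2
      have := ncard_nbr_conj S.hD (d := d) hr
      rw [show d * e * d * (d * e)⁻¹ = e from ?_] at this
      · exact this.symm
      · rw [mul_inv_rev, inv_eq S.hD.1 hd.1, inv_eq S.hD.1 he.1, braid S.hD.1 hd.1 he.1 hc]
        calc e * d * e * (e * d) = e * d * (e * e) * d := by group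
          _ = e := by rw [mul_self S.hD.1 he.1, mul_one, mul_assoc, mul_self S.hD.1 hd.1, mul_one]
  set k := (nbr D y d₀).ncard
  have hk : ∀ d ∈ T, {e | e ∈ T ∧ e ∈ perp D d}.ncard = k := fun d hd => by
    rw [← nbr_eq]; exact hsame hd ⟨hd₀, hc₀⟩
  haveI : Fintype D := Fintype.ofFinite D
  have hbound := ncard_le_of_regular S (T := T) (fun t ht => ht.1) hk
  have hparts : ∀ k' q, q < k' → k = k' → (∀ d ∈ T, TypeParts D y d k' q) → k' + q ∣ T.ncard := by
    intro k' q hq hkk h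
    refine dvd_of_parts (D := D) (fun t ht => ht.1) hq (fun d hd => hkk ▸ hk d hd) (fun d hd u hu hud => ?_)
      fun d hd u hu v hv w hw hud hvd hwd => (h d hd).2.2 u ⟨hud, hu.2⟩ v ⟨hvd, hv.2⟩ w ⟨hwd, hw.2⟩
    rw [← (h d hd).2.1 u ⟨hud, hu.2⟩]
    congr 2
    exact Set.ext fun v => ⟨fun h => ⟨⟨h.2.1, h.1.2⟩, h.2.2⟩, fun h => ⟨⟨h.1.1.1, h.1.2⟩, h.1.1, h.2⟩⟩
  rcases hsize (d := d₀) ⟨hd₀, hc₀⟩ with h0 | ⟨hk45, -, -⟩ | ⟨hk18, -⟩ | ⟨hk9, -⟩
  · refine Large.not_dvd_noncomm (q := 13) S.hD.1 (fun t ht => ht.1) hne hT.2 (fun a ha b hb hab => ?_)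
      (by norm_num) h13
    by_contra hne'
    have hm : b ∈ nbr D y a := ⟨⟨hb.1, Ne.symm hne', hab⟩, hb.2⟩
    have h1 : (nbr D y a).ncard ≠ 0 := ((Set.ncard_pos (Set.toFinite _)).mpr ⟨b, hm⟩).ne'
    exact h1 ((hsame ha ⟨hd₀, hc₀⟩).trans h0)
  swap
  · have h := hparts 18 9 (by norm_num) hk18 fun d hd => by
      rcases hsize hd with h | ⟨h, -⟩ | ⟨-, h⟩ | ⟨h, -⟩
      all_goals first | assumption | (have := hsame hd ⟨hd₀, hc₀⟩; omega)
    have := Nat.le_of_dvd hpos (Nat.Coprime.mul_dvd_of_dvd_of_dvd (by norm_num) h h13)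
    omega
  swap
  · have h := hparts 9 3 (by norm_num) hk9 fun d hd => by
      rcases hsize hd with h | ⟨h, -⟩ | ⟨h, -⟩ | ⟨-, h⟩
      all_goals first | assumption | (have := hsame hd ⟨hd₀, hc₀⟩; omega)
    have := Nat.le_of_dvd hpos (Nat.Coprime.mul_dvd_of_dvd_of_dvd (by norm_num) h h13)
    omega
  -- the case of 45 neighbours
  have hfour : ∀ {d : G}, d ∈ T → TypeFour D y d := fun {d} hd => by
    rcases hsize hd with h | ⟨-, h, -⟩ | ⟨h, -⟩ | ⟨h, -⟩
    all_goals first | assumption | (have := hsame hd ⟨hd₀, hc₀⟩; omega)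
  have h45 : ∀ {d : G}, d ∈ T → (nbr D y d).ncard = 45 := fun hd => (quad_facts S hd.1 (hfour hd)).1
  have hlam : ∀ {d u : G}, d ∈ T → u ∈ nbr D y d → (meet D y d u).ncard = 12 := fun {d u} hd hu => by
    rw [← (quad_facts S hd.1 (hfour hd)).2.1 u hu]
    congr 1
    exact Set.ext fun v => ⟨fun h => ⟨h.1, h.2.1⟩, fun h => ⟨h.1, h.2, h.1.2⟩⟩
  have memT : ∀ {d u : G}, u ∈ nbr D y d → u ∈ T := fun hu => ⟨hu.1.1, hu.2⟩
  have hirr : ∀ {d : G}, d ∉ nbr D y d := fun h => h.1.2.1 rfl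
  have hthree : ∀ {u p q : G}, u ∈ T → p ∈ nbr D y u → q ∈ nbr D y u → p ≠ q →
      (nbr D y u ∩ meet D y p q).ncard = 3 := fun {u p q} hu hp hq hne => by
    rw [← (quad_facts S hu.1 (hfour hu)).2.2.1 p hp q hq hne]
    congr 1
    exact Set.ext fun v => ⟨fun h => ⟨h.1, h.2.1.1, h.2.2.1⟩, fun h => ⟨h.1, ⟨h.2.1, h.1.2⟩, ⟨h.2.2, h.1.2⟩⟩⟩
  let R : G → G → Set G := fun d u => nbr D y u \ insert d (nbr D y d)
  have hR : ∀ {d u : G}, d ∈ T → u ∈ nbr D y d → (R d u).ncard = 32 := fun {d u} hd hu => by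
    have h1 := Set.ncard_sdiff_add_ncard_of_subset
      (s := insert d (meet D y d u)) (t := nbr D y u)
      (Set.insert_subset (mem_nbr_symm hd hu) Set.inter_subset_right) (Set.toFinite _)
    rw [Set.ncard_insert_of_notMem (fun h => hirr h.1) (Set.toFinite _), hlam hd hu, h45 (memT hu)] at h1
    have h2 : R d u = nbr D y u \ insert d (meet D y d u) := by
      ext v
      constructor
      · exact fun hv => ⟨hv.1, fun h => hv.2 (h.elim Or.inl fun h => Or.inr h.1)⟩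
      · exact fun hv => ⟨hv.1, fun h => hv.2 (h.elim Or.inl fun h => Or.inr ⟨h, hv.1⟩)⟩
    rw [h2]
    omega
  have hfar : ∀ {d u e : G}, d ∈ T → u ∈ nbr D y d → e ∈ R d u → ¬ Commute d e := fun {d u e} _ _ he hc =>
    he.2 (by
      by_cases h : e = d
      · exact Or.inl h
      · exact Or.inr ⟨⟨he.1.1.1, h, hc⟩, he.1.2⟩)
  -- the number of common neighbours depends only on the first point
  have hconst1 : ∀ {d u e e' : G}, d ∈ T → u ∈ nbr D y d → e ∈ R d u → e' ∈ R d u →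
      (meet D y d e).ncard = (meet D y d e').ncard := by
    intro d u e e' hd hu he he'
    obtain ⟨g, hg, -, h1, h2⟩ := (quad_facts S (memT hu).1 (hfour (memT hu))).2.2.2 d (mem_nbr_symm hd hu) e he.1 e' he'.1
      (hfar hd hu he) (hfar hd hu he')
    have h : meet D y d e' = (fun z => g * z * g⁻¹) '' meet D y d e := by
      ext z
      constructor
      · intro hz
        refine ⟨g⁻¹ * z * g, ⟨(nbr_conj S.hD hg).mp ?_, (nbr_conj S.hD hg).mp ?_⟩, by group⟩
        · rw [h1]; simpa [mul_assoc] using hz.1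
        · rw [h2]; simpa [mul_assoc] using hz.2
      · rintro ⟨w, hw, rfl⟩
        have a := (nbr_conj S.hD hg).mpr hw.1
        have b := (nbr_conj S.hD hg).mpr hw.2
        rw [h1] at a; rw [h2] at b
        exact ⟨a, b⟩
    rw [h, Set.ncard_image_of_injective _ fun u v h => by simpa using h]
  have hoverlap : ∀ {d u u' : G}, d ∈ T → u ∈ nbr D y d → u' ∈ nbr D y d → u' ∈ nbr D y u →
      (R d u ∩ R d u').Nonempty := by
    intro d u u' hd hu hu' huu'
    by_contra h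
    have hsub : meet D y u u' \ {d} ⊆ nbr D y u ∩ meet D y d u' := fun v hv => by
      have : v ∈ nbr D y d := by
        by_contra hvd
        exact h ⟨v, ⟨hv.1.1, fun e => e.elim (fun e => hv.2 e) hvd⟩,
          ⟨hv.1.2, fun e => e.elim (fun e => hv.2 e) hvd⟩⟩
      exact ⟨hv.1.1, this, hv.1.2⟩
    have h1 := Set.ncard_le_ncard hsub (Set.toFinite _)
    have hne' : d ≠ u' := fun e => hirr (e ▸ hu' : d ∈ nbr D y d)
    rw [hthree (memT hu) (mem_nbr_symm hd hu) huu' hne', Set.ncard_sdiff_singleton_of_mem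
      (show d ∈ meet D y u u' from ⟨mem_nbr_symm hd hu, mem_nbr_symm hd hu'⟩), hlam (memT hu) huu'] at h1
    omega
  have hconst : ∀ {d u u' e e' : G}, d ∈ T → u ∈ nbr D y d → u' ∈ nbr D y d → e ∈ R d u → e' ∈ R d u' →
      (meet D y d e).ncard = (meet D y d e').ncard := by
    intro d u u' e e' hd hu hu' he he'
    have step : ∀ {p p' : G}, p ∈ nbr D y d → p' ∈ nbr D y d → p' ∈ nbr D y p → ∀ f ∈ R d p, ∀ f' ∈ R d p',
        (meet D y d f).ncard = (meet D y d f').ncard := fun {p p'} hp hp' hpp f hf f' hf' => by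
      obtain ⟨z, hz, hz'⟩ := hoverlap hd hp hp' hpp
      exact (hconst1 hd hp hf hz).trans (hconst1 hd hp' hz' hf')
    by_cases huu : u = u'
    · exact hconst1 hd hu he (huu ▸ he')
    by_cases hc : u' ∈ nbr D y u
    · exact step hu hu' hc e he e' he'
    obtain ⟨w, hwd, hwu, hwu'⟩ := Set.nonempty_of_ncard_ne_zero
      (s := nbr D y d ∩ meet D y u u') (by rw [hthree hd hu hu' huu]; norm_num)
    obtain ⟨f, hf⟩ := Set.nonempty_of_ncard_ne_zero (s := R d w) (by rw [hR hd hwd]; norm_num)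
    exact (step hu hwd hwu e he f hf).trans (step hwd hu' (mem_nbr_symm (memT hu') hwu') f hf e' he')
  -- components
  let D2 : G → Set G := fun d => {e | e ∈ T ∧ ¬ Commute d e ∧ (meet D y d e).Nonempty}
  let Cp : G → Set G := fun d => insert d (nbr D y d) ∪ D2 d
  have hCpT : ∀ {d z : G}, d ∈ T → z ∈ Cp d → z ∈ T := fun {d z} hd hz =>
    hz.elim (fun h => h.elim (fun h => h ▸ hd) memT) And.left
  have hclose : ∀ {d z v : G}, d ∈ T → z ∈ Cp d → v ∈ nbr D y z → v ∈ Cp d := by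
    intro d z v hd hz hv
    have hvT := memT hv
    by_cases hvd : Commute d v
    · by_cases hveq : v = d
      · exact Or.inl (Or.inl hveq)
      · exact Or.inl (Or.inr ⟨⟨hvT.1, hveq, hvd⟩, hvT.2⟩)
    refine Or.inr ⟨hvT, hvd, ?_⟩
    rcases hz with (rfl | hz) | hz
    · exact absurd hv.1.2.2 hvd
    · exact ⟨z, hz, mem_nbr_symm (memT hz) hv⟩
    · obtain ⟨u, hud, huz⟩ := hz.2.2
      by_cases huv : Commute u v
      · by_cases hne' : u = v
        · exact absurd (hne' ▸ hud.1.2.2) hvd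
        · exact ⟨u, hud, ⟨hud.1.1, hne', huv.symm⟩, hud.2⟩
      · obtain ⟨q, hq, n1, n2, c1, c2⟩ := exists_shortcut hT hd (memT hud) hz.1 hvT hud.1.2.2
          huz.1.2.2.symm hv.1.2.2 huv hvd
        exact ⟨q, ⟨⟨hq.1, n1, c1.symm⟩, hq.2⟩, ⟨hq.1, n2, c2.symm⟩, hq.2⟩
  have hCpsub : ∀ {d z : G}, d ∈ T → z ∈ Cp d → Cp z ⊆ Cp d := by
    intro d z hd hz v hv
    rcases hv with (rfl | hv) | hv
    · exact hz
    · exact hclose hd hz hv
    · obtain ⟨w, hwz, hwv⟩ := hv.2.2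
      exact hclose hd (hclose hd hz hwz) (mem_nbr_symm hv.1 hwv)
  have hCpsymm : ∀ {d z : G}, d ∈ T → z ∈ Cp d → d ∈ Cp z := by
    rintro d z hd ((rfl | hz) | hz)
    · exact Or.inl (Or.inl rfl)
    · exact Or.inl (Or.inr (mem_nbr_symm hd hz))
    · exact Or.inr ⟨hd, fun h => hz.2.1 h.symm, hz.2.2.imp fun w hw => ⟨hw.2, hw.1⟩⟩
  have hCp : ∀ {d z : G}, d ∈ T → z ∈ Cp d → Cp z = Cp d := fun hd hz =>
    Set.Subset.antisymm (hCpsub hd hz) (hCpsub (hCpT hd hz) (hCpsymm hd hz))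
  set d := d₀
  have hd : d ∈ T := ⟨hd₀, hc₀⟩
  obtain ⟨u₀, hu₀⟩ := Set.nonempty_of_ncard_ne_zero (s := nbr D y d) (by rw [h45 hd]; norm_num)
  obtain ⟨e₀, he₀⟩ := Set.nonempty_of_ncard_ne_zero (s := R d u₀) (by rw [hR hd hu₀]; norm_num)
  set μ := (meet D y d e₀).ncard
  set n := (D2 d).ncard
  have hμ : ∀ e ∈ D2 d, (meet D y d e).ncard = μ := fun e he => by
    obtain ⟨u, hud, hue⟩ := he.2.2
    refine hconst hd hud hu₀ ⟨mem_nbr_symm he.1 hue, fun h => he.2.1 ?_⟩ he₀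
    rcases h with rfl | h
    · exact Commute.refl _
    · exact h.1.2.2
  have hdouble : n * μ = 1440 := by
    have key : ∑ u ∈ (nbr D y d).toFinite.toFinset, ((D2 d).toFinite.toFinset.filter (fun e => e ∈ nbr D y u)).card =
        ∑ e ∈ (D2 d).toFinite.toFinset, ((nbr D y d).toFinite.toFinset.filter (fun u => e ∈ nbr D y u)).card :=
      Finset.sum_card_bipartiteAbove_eq_sum_card_bipartiteBelow (r := fun u e => e ∈ nbr D y u)
    have e1 : ∀ u ∈ (nbr D y d).toFinite.toFinset,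
        ((D2 d).toFinite.toFinset.filter (fun e => e ∈ nbr D y u)).card = 32 := fun u hu => by
      rw [Set.Finite.mem_toFinset] at hu
      rw [← hR hd hu, Set.ncard_eq_toFinset_card _ (Set.toFinite _)]
      congr 1
      ext e
      simp only [Finset.mem_filter, Set.Finite.mem_toFinset]
      refine ⟨fun h => ⟨h.2, fun hh => h.1.2.1 ?_⟩, fun h =>
        ⟨⟨memT h.1, hfar hd hu h, u, hu, mem_nbr_symm (memT hu) h.1⟩, h.1⟩⟩
      rcases hh with rfl | hh
      · exact Commute.refl _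
      · exact hh.1.2.2
    have e2 : ∀ e ∈ (D2 d).toFinite.toFinset,
        ((nbr D y d).toFinite.toFinset.filter (fun u => e ∈ nbr D y u)).card = μ := fun e he => by
      rw [Set.Finite.mem_toFinset] at he
      rw [← hμ e he, Set.ncard_eq_toFinset_card _ (Set.toFinite _)]
      congr 1
      ext u
      simp only [Finset.mem_filter, Set.Finite.mem_toFinset]
      exact ⟨fun h => ⟨h.1, mem_nbr_symm (memT h.1) h.2⟩, fun h => ⟨h.1, mem_nbr_symm he.1 h.2⟩⟩
    have f1 : (nbr D y d).toFinite.toFinset.card = 45 := by rw [← Set.ncard_eq_toFinset_card, h45 hd]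
    have f2 : (D2 d).toFinite.toFinset.card = n := by rw [← Set.ncard_eq_toFinset_card]
    have := ((Finset.sum_const_nat e1).symm.trans key).trans (Finset.sum_const_nat e2)
    rw [f1, f2] at this
    omega
  have hμle : μ ≤ 25 := by
    set M := meet D y d e₀
    have he₀T : e₀ ∈ T := memT he₀.1
    have hed : ¬ Commute d e₀ := hfar hd hu₀ he₀
    have hin : ∀ u ∈ M, (nbr D y u ∩ M).ncard = 3 := fun u hu =>
      hthree (memT hu.1) (mem_nbr_symm hd hu.1) (mem_nbr_symm he₀T hu.2) fun e => hed (e ▸ Commute.refl d)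
    have key : ∑ u ∈ M.toFinite.toFinset, ((nbr D y d \ M).toFinite.toFinset.filter (fun p => p ∈ nbr D y u)).card =
        ∑ p ∈ (nbr D y d \ M).toFinite.toFinset, (M.toFinite.toFinset.filter (fun u => p ∈ nbr D y u)).card :=
      Finset.sum_card_bipartiteAbove_eq_sum_card_bipartiteBelow (r := fun u p => p ∈ nbr D y u)
    have hup : ∑ p ∈ (nbr D y d \ M).toFinite.toFinset, (M.toFinite.toFinset.filter (fun u => p ∈ nbr D y u)).card
        ≤ (nbr D y d \ M).toFinite.toFinset.card * 12 := by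
      refine (Finset.sum_le_card_nsmul _ _ 12 fun p hp => ?_).trans_eq (smul_eq_mul _ _)
      rw [Set.Finite.mem_toFinset] at hp
      rw [← hlam hd hp.1, Set.ncard_eq_toFinset_card _ (Set.toFinite _)]
      refine Finset.card_le_card fun u hu => ?_
      simp only [Finset.mem_filter, Set.Finite.mem_toFinset] at hu ⊢
      exact ⟨hu.1.1, mem_nbr_symm (memT hu.1.1) hu.2⟩
    rw [Finset.sum_congr rfl (g := fun _ => 9) (fun u hu => ?_)] at key
    · rw [Finset.sum_const, smul_eq_mul, ← Set.ncard_eq_toFinset_card] at key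
      rw [← key, ← Set.ncard_eq_toFinset_card] at hup
      have h1 := Set.ncard_sdiff_add_ncard_of_subset (s := M) (t := nbr D y d) Set.inter_subset_left (Set.toFinite _)
      rw [h45 hd] at h1
      have : M.ncard = μ := rfl
      omega
    · rw [Set.Finite.mem_toFinset] at hu
      have h1 := Set.ncard_sdiff_add_ncard_of_subset (s := nbr D y u ∩ M) (t := meet D y d u)
        (fun v hv => ⟨hv.2.1, hv.1⟩) (Set.toFinite _)
      rw [hlam hd hu.1, hin u hu] at h1
      have hset : meet D y d u \ (nbr D y u ∩ M) = {p | p ∈ nbr D y d \ M ∧ p ∈ nbr D y u} := by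
        ext p
        exact ⟨fun h => ⟨⟨h.1.1, fun hM => h.2 ⟨h.1.2, hM⟩⟩, h.1.2⟩, fun h => ⟨⟨h.1.1, h.2⟩, fun hh => h.1.2 hh.2⟩⟩
      rw [hset, Set.ncard_eq_toFinset_card _ (Set.toFinite _)] at h1
      rw [show (nbr D y d \ M).toFinite.toFinset.filter (fun p => p ∈ nbr D y u) =
        (Set.toFinite {p | p ∈ nbr D y d \ M ∧ p ∈ nbr D y u}).toFinset by ext; simp]
      omega
  have hs : (Cp d).ncard = 46 + n := by
    show (insert d (nbr D y d) ∪ D2 d).ncard = _
    rw [Set.ncard_union_eq ?_ (Set.toFinite _) (Set.toFinite _),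
      Set.ncard_insert_of_notMem hirr (Set.toFinite _), h45 hd]
    rw [Set.disjoint_left]
    rintro z (rfl | hz) hz2
    · exact hz2.2.1 (Commute.refl _)
    · exact hz2.2.1 hz.1.2.2
  have hk' : k = 45 := hk45
  have hle : (Cp d).ncard ≤ T.ncard := Set.ncard_le_ncard (fun z hz => hCpT hd hz) (Set.toFinite _)
  rw [hk'] at hbound
  by_cases hstab : x * d * x⁻¹ ∈ Cp d
  · have hinv : ∀ z ∈ Cp d, x * z * x⁻¹ ∈ Cp d := by
      have h1 : ∀ {z v : G}, v ∈ nbr D y z → x * v * x⁻¹ ∈ nbr D y (x * z * x⁻¹) := fun h =>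
        (nbr_conj S.hD hxy.symm).mpr h
      rintro z ((rfl | hz) | hz)
      · exact hstab
      · exact hclose hd hstab (h1 hz)
      · obtain ⟨w, hw1, hw2⟩ := hz.2.2
        exact hclose hd (hclose hd hstab (h1 hw1)) (h1 (mem_nbr_symm hz.1 hw2))
    have h := hdvd (Cp d) (fun z hz => hCpT hd hz) hinv
    rw [hs] at h hle
    have hn : n ≤ 224 := by omega
    have hμ1 : 7 ≤ μ := by
      by_contra hcon
      push Not at hcon
      interval_cases μ <;> omega
    interval_cases μ <;> omega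
  · have hinj : Function.Injective (fun p : Fin 13 × Cp d => x ^ (p.1 : ℕ) * p.2.1 * (x ^ (p.1 : ℕ))⁻¹) := by
      have hpowT : ∀ (i : ℕ) {z : G}, z ∈ T → x ^ i * z * (x ^ i)⁻¹ ∈ T := fun i z hz =>
        ⟨S.hD.2.1 _ z hz.1, ((hxy.symm.pow_right i).mul_right hz.2).mul_right (hxy.symm.pow_right i).inv_right⟩
      have hconjCp : ∀ (i : ℕ) {z w : G}, z ∈ T → w ∈ Cp z → x ^ i * w * (x ^ i)⁻¹ ∈ Cp (x ^ i * z * (x ^ i)⁻¹) := by
        intro i z w hz hw
        have h1 : ∀ {p v : G}, v ∈ nbr D y p → x ^ i * v * (x ^ i)⁻¹ ∈ nbr D y (x ^ i * p * (x ^ i)⁻¹) := fun h =>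
          (nbr_conj S.hD (hxy.symm.pow_right i)).mpr h
        have h0 : x ^ i * z * (x ^ i)⁻¹ ∈ Cp (x ^ i * z * (x ^ i)⁻¹) := Or.inl (Or.inl rfl)
        rcases hw with (rfl | hw) | hw
        · exact h0
        · exact Or.inl (Or.inr (h1 hw))
        · obtain ⟨v, hv1, hv2⟩ := hw.2.2
          exact hclose (hpowT i hz) (Or.inl (Or.inr (h1 hv1))) (h1 (mem_nbr_symm hw.1 hv2))
      -- a power moving a point of the component inside it gives an invariant component
      have key : ∀ (j : ℕ) (z : G), z ∈ Cp d → x ^ j * z * (x ^ j)⁻¹ ∈ Cp d → 13 ∣ j := by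
        intro j z hz hjz
        by_contra hj
        have hzT := hCpT hd hz
        have hmove : ∀ w ∈ Cp d, x ^ j * w * (x ^ j)⁻¹ ∈ Cp d := fun w hw => by
          have hww : w ∈ Cp z := (hCp hd hz).symm ▸ hw
          have h2 := hconjCp j hzT hww
          rwa [hCp hd hjz] at h2
        have hall : ∀ m : ℕ, ∀ w ∈ Cp d, x ^ (j * m) * w * (x ^ (j * m))⁻¹ ∈ Cp d := by
          intro m
          induction m with
          | zero => intro w hw; simpa using hw
          | succ m ih =>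
            intro w hw
            have := hmove _ (ih w hw)
            rwa [show x ^ j * (x ^ (j * m) * w * (x ^ (j * m))⁻¹) * (x ^ j)⁻¹ =
              x ^ (j + j * m) * w * (x ^ (j + j * m))⁻¹ by rw [pow_add]; group,
              show j + j * m = j * (m + 1) by ring] at this
        obtain ⟨m, hm⟩ : ∃ m : ℕ, j * m % 13 = 1 := by
          have hcop : Nat.Coprime j 13 := (Nat.coprime_comm.mp (hp13.out.coprime_iff_not_dvd.mpr hj))
          obtain ⟨m, hm⟩ := Nat.exists_mul_mod_eq_one_of_coprime hcop (by norm_num)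
          exact ⟨m, hm.2⟩
        refine hstab ?_
        have := hall m d (Or.inl (Or.inl rfl))
        rwa [show x ^ (j * m) = x by rw [pow_eq_pow_mod _ hx13, hm, pow_one]] at this
      rintro ⟨i, z, hz⟩ ⟨j, w, hw⟩ h
      have h' : x ^ (i : ℕ) * z * (x ^ (i : ℕ))⁻¹ = x ^ (j : ℕ) * w * (x ^ (j : ℕ))⁻¹ := h
      set r := (i : ℕ) + (13 - j)
      have hr : x ^ r * z * (x ^ r)⁻¹ = w := by
        have hj13 : x ^ (13 - (j : ℕ)) = (x ^ (j : ℕ))⁻¹ := by
          refine eq_inv_of_mul_eq_one_left ?_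
          rw [← pow_add, Nat.sub_add_cancel j.2.le, hx13]
        rw [show r = (13 - (j : ℕ)) + i by omega, pow_add, hj13]
        calc (x ^ (j : ℕ))⁻¹ * x ^ (i : ℕ) * z * ((x ^ (j : ℕ))⁻¹ * x ^ (i : ℕ))⁻¹
            = (x ^ (j : ℕ))⁻¹ * (x ^ (i : ℕ) * z * (x ^ (i : ℕ))⁻¹) * x ^ (j : ℕ) := by group
          _ = w := by rw [h']; group
      have hd13 := key r z hz (hr.symm ▸ hw)
      obtain rfl : i = j := Fin.ext (by omega)
      have : z = w := by
        have := congrArg (fun t => (x ^ (i : ℕ))⁻¹ * t * x ^ (i : ℕ)) h'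
        simpa [mul_assoc] using this
      subst this
      rfl
    have h := Nat.card_le_card_of_injective (fun p : Fin 13 × Cp d =>
      (⟨x ^ (p.1 : ℕ) * p.2.1 * (x ^ (p.1 : ℕ))⁻¹,
        S.hD.2.1 _ _ (hCpT hd p.2.2).1,
        ((hxy.symm.pow_right _).mul_right (hCpT hd p.2.2).2).mul_right (hxy.symm.pow_right _).inv_right⟩ : T))
      (fun p q h => hinj (congrArg Subtype.val h))
    rw [Nat.card_prod, Nat.card_fin, Nat.card_coe_set_eq, Nat.card_coe_set_eq, hs] at h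
    omega

end Cfsg.Agent.Lib.FischerMTypes.Thirteen
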