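import Mathlib
import Cfsg.Agent.Lib.FischerMTypes.Five.Final
import Cfsg.Agent.Lib.FischerMTypes.Seven.Final
import Cfsg.Agent.Lib.FischerMTypes.Eleven.Levels
import Cfsg.Agent.Lib.FischerMTypes.Prime.Basic
import Cfsg.Agent.Lib.FischerMTypes.Thirteen.Fixed
import Cfsg.Agent.Lib.FischerMTypes.Thirteen.Invol

/-!
Type M(22): the centraliser of an element of order 13 has order 13 or 39, its normaliser order 78.
-/

set_option autoImplicit false
set_option linter.style.haveILetI false
set_option linter.unusedSectionVars false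

namespace Cfsg.Agent.Lib.FischerMTypes.Thirteen

open Cfsg.Agent.Lib.FischerMTypes.Basic Cfsg.Agent.Lib.FischerMTypes.Primitive Cfsg.Agent.Lib.FischerMTypes.TraceSize
open Cfsg.Agent.Lib.FischerMTypes.TraceCounts (Sys)

variable {G : Type*} [Group G] [Finite G] {D : Set G}
variable {F : Type} [Field F] [Fintype F]
variable (S : Sys D F)

include S in
/-- an element of order 13 centralises no transposition -/
theorem thirteen_free {x : G} (hx : orderOf x = 13) : ∀ d ∈ D, ¬ Commute x d := by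
  intro d hd hc
  have h := Subgroup.orderOf_dvd_natCard (Subgroup.centralizer ({d} : Set G))
    (Subgroup.mem_centralizer_singleton_iff.mpr hc.eq)
  rw [hx, OrderWidth.card_centralizer S hd] at h
  norm_num at h

include S in
theorem once_thirteen : PrimeOnce.Once 13 G := by
  have : Fact (Nat.Prime 13) := ⟨by norm_num⟩
  exact PrimeOnce.once_of_eq (OrderWidth.card_group S) (m := 2 ^ 17 * 3 ^ 9 * 5 ^ 2 * 7 * 11) (by norm_num)
    (by norm_num)

include S in
/-- the centraliser of an element of order 13 has order `13 * 3 ^ a` -/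
theorem card_centralizer_pow {x : G} (hx : orderOf x = 13) :
    ∃ a ≤ 9, Nat.card (Subgroup.centralizer ({x} : Set G)) = 13 * 3 ^ a := by
  set C := Subgroup.centralizer ({x} : Set G)
  have key : ∀ p, p.Prime → p ∈ [2, 5, 7, 11] → ¬ p ∣ Nat.card C := by
    intro p hp hmem hdvd
    have : Fact p.Prime := ⟨hp⟩
    obtain ⟨z, hz⟩ := exists_prime_orderOf_dvd_card' (G := C) p hdvd
    rw [← Subgroup.orderOf_coe] at hz
    have hc : Commute (z : G) x := Subgroup.mem_centralizer_singleton_iff.mp z.2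
    set Z := Subgroup.zpowers (z : G)
    have hZ : Nat.card Z = p := by rw [Nat.card_zpowers, hz]
    have hxN : x ∈ Subgroup.normalizer (Z : Set G) := Subgroup.centralizer_le_normalizer (Z : Set G) (by
      rw [PrimeOnce.centralizer_zpowers]; exact Subgroup.mem_centralizer_singleton_iff.mpr hc.symm.eq)
    have h13 : 13 ∣ Nat.card (Subgroup.normalizer (Z : Set G)) := by
      rw [← hx]
      exact Subgroup.orderOf_dvd_natCard _ hxN
    simp only [List.mem_cons, List.not_mem_nil, or_false] at hmem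
    rcases hmem with rfl | rfl | rfl | rfl
    · exact not_commute_invol S hx (thirteen_free S hx) hz hc.symm
    · rw [((Five.answer_one S).res Z hZ).nor] at h13
      norm_num [Nat.factorial] at h13
    · rw [((Seven.res_one S).2 Z hZ).nor] at h13
      norm_num [Nat.factorial] at h13
    · obtain ⟨h1, h2⟩ := Eleven.card_normalizer_eq S.hD.2.1 (Eleven.local_one S) hZ
      rw [h2, Nat.eq_one_of_dvd_one h1] at h13
      norm_num at h13
  have hco : ∀ p, p.Prime → p ∈ [2, 5, 7, 11] → ∀ n, (Nat.card C).Coprime (p ^ n) := fun p hp hmem n =>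
    Nat.Coprime.pow_right n ((hp.coprime_iff_not_dvd.mpr (key p hp hmem)).symm)
  have hdvd : Nat.card C ∣ 3 ^ 9 * 13 := by
    refine Nat.Coprime.dvd_of_dvd_mul_right (n := 2 ^ 17 * 5 ^ 2 * 7 ^ 1 * 11 ^ 1) ?_ ?_
    · exact (((hco 2 Nat.prime_two (by simp) 17).mul_right (hco 5 Nat.prime_five (by simp) 2)).mul_right
        (hco 7 (by norm_num) (by simp) 1)).mul_right (hco 11 (by norm_num) (by simp) 1)
    · refine (Subgroup.card_subgroup_dvd_card C).trans (dvd_of_eq ?_)
      rw [OrderWidth.card_group S]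
      norm_num
  obtain ⟨c, hc⟩ : 13 ∣ Nat.card C := by
    rw [← hx]
    exact Subgroup.orderOf_dvd_natCard _ (Subgroup.mem_centralizer_singleton_iff.mpr rfl)
  rw [hc, mul_comm (3 ^ 9) 13] at hdvd
  obtain ⟨a, ha, rfl⟩ := (Nat.dvd_prime_pow Nat.prime_three).mp
    (Nat.dvd_of_mul_dvd_mul_left (by norm_num) hdvd)
  exact ⟨a, ha, hc⟩

theorem index_cases : ∀ a : Fin 10, ∀ k : Fin 13, (k : ℕ) ∣ 12 → 3 ^ (a : ℕ) * (k : ℕ) % 13 = 6 →
    ((a : ℕ) % 3 = 0 ∧ (k : ℕ) = 6) ∨ ((a : ℕ) % 3 = 1 ∧ (k : ℕ) = 2) := by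
  decide +kernel

include S in
theorem card_normalizer_cases {x : G} (hx : orderOf x = 13) :
    ∃ a k, a ≤ 9 ∧ Nat.card (Subgroup.centralizer ({x} : Set G)) = 13 * 3 ^ a ∧
      Nat.card (Subgroup.normalizer (Subgroup.zpowers x : Set G)) = 13 * 3 ^ a * k ∧
      ((a % 3 = 0 ∧ k = 6) ∨ (a % 3 = 1 ∧ k = 2)) := by
  have : Fact (Nat.Prime 13) := ⟨by norm_num⟩
  have hX : Nat.card (Subgroup.zpowers x) = 13 := by rw [Nat.card_zpowers, hx]
  obtain ⟨a, ha, hC⟩ := card_centralizer_pow S hx
  obtain ⟨k, hk, hN⟩ := PrimeOnce.exists_normalizer_mul hX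
  rw [PrimeOnce.centralizer_zpowers, hC] at hN
  refine ⟨a, k, ha, hC, hN, ?_⟩
  have hi := PrimeOnce.index_normalizer_mod (once_thirteen S) hX
  have hG := Subgroup.card_mul_index (Subgroup.normalizer (Subgroup.zpowers x : Set G))
  rw [hN, OrderWidth.card_group S] at hG
  set i := (Subgroup.normalizer (Subgroup.zpowers x : Set G)).index
  have h : 3 ^ a * k * i = 2 ^ 17 * 3 ^ 9 * 5 ^ 2 * 7 * 11 := by
    refine Nat.eq_of_mul_eq_mul_left (show 0 < 13 by norm_num) ?_
    rw [← mul_assoc, ← mul_assoc, hG]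
    norm_num
  have hmod : 3 ^ a * k % 13 = 6 := by
    have h' := congrArg (· % 13) h
    simp only [Nat.mul_mod _ i, hi, mul_one, Nat.mod_mod] at h'
    simpa using h'
  have hk12 : k ≤ 12 := Nat.le_of_dvd (by norm_num) hk
  simpa using index_cases ⟨a, by omega⟩ ⟨k, by omega⟩ hk (by simpa using hmod)

include S in
/-- the centraliser of an element of order 13 acts freely on the transpositions -/
theorem centralizer_free {x g d : G} (hx : orderOf x = 13) (hg : Commute g x) (hd : d ∈ D) (hgd : Commute g d) :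
    g = 1 := by
  by_contra hne
  obtain ⟨a, -, hC⟩ := card_centralizer_pow S hx
  have h1 : orderOf g ≠ 1 := fun h => hne (orderOf_eq_one_iff.mp h)
  obtain ⟨p, hp, hpg⟩ := Nat.exists_prime_and_dvd h1
  have hy : orderOf (g ^ (orderOf g / p)) = p := by
    rw [orderOf_pow' _ (Nat.div_pos (Nat.le_of_dvd (orderOf_pos g) hpg) hp.pos).ne',
      Nat.gcd_eq_right (Nat.div_dvd_of_dvd hpg), Nat.div_div_self hpg (orderOf_pos g).ne']
  set y := g ^ (orderOf g / p)
  have hyd : Commute y d := hgd.pow_left _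
  have hyx : Commute y x := hg.pow_left _
  have hdvd : p ∣ 13 * 3 ^ a := by
    rw [← hC]
    refine hpg.trans ?_
    exact Subgroup.orderOf_dvd_natCard _ (Subgroup.mem_centralizer_singleton_iff.mpr hg.eq)
  rcases (Nat.Prime.dvd_mul hp).mp hdvd with h | h
  · exact thirteen_free S (hy.trans ((Nat.prime_dvd_prime_iff_eq hp (by norm_num)).mp h)) d hd hyd
  · exact no_fixed S hx (hy.trans ((Nat.prime_dvd_prime_iff_eq hp Nat.prime_three).mp (hp.dvd_of_dvd_pow h)))
      hyx.symm (thirteen_free S hx) d hd hyd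

/-- an involution of the normaliser, outside the centraliser, inverts -/
theorem inverting {x t : G} (hx : orderOf x = 13) (ht : orderOf t = 2)
    (htN : t ∈ Subgroup.normalizer (Subgroup.zpowers x : Set G)) (htC : ¬ Commute t x) : t * x * t⁻¹ = x⁻¹ := by
  obtain ⟨s, hs⟩ : t * x * t⁻¹ ∈ Submonoid.powers x :=
    (isOfFinOrder_of_finite x).mem_powers_iff_mem_zpowers.mpr
      (Eleven.conj_mem_of_mem_normalizer htN x (Subgroup.mem_zpowers x))
  have hs' : t * x * t⁻¹ = x ^ s := hs.symm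
  have h2 : x ^ (s * s) = x := by
    rw [pow_mul, ← hs', conj_pow, ← hs']
    calc t * (t * x * t⁻¹) * t⁻¹ = t ^ 2 * x * (t ^ 2)⁻¹ := by rw [pow_two]; group
      _ = x := by rw [show t ^ 2 = 1 from ht ▸ pow_orderOf_eq_one t]; simp
  have hmod : s * s % 13 = 1 := by
    have h := pow_eq_pow_iff_modEq.mp (h2.trans (pow_one x).symm)
    rw [hx] at h
    exact h
  have hsc : s % 13 = 1 ∨ s % 13 = 12 := by
    have h : (s % 13) * (s % 13) % 13 = 1 := by rw [← Nat.mul_mod]; exact hmod
    have hlt : s % 13 < 13 := Nat.mod_lt _ (by norm_num)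
    interval_cases hr : s % 13 <;> omega
  rcases hsc with h | h
  · exfalso
    refine htC (mul_inv_eq_iff_eq_mul.mp ?_)
    rw [hs', ← pow_mod_orderOf, hx, h, pow_one]
  · rw [hs', ← pow_mod_orderOf, hx, h]
    exact eq_inv_of_mul_eq_one_left (by rw [← pow_succ, show 12 + 1 = orderOf x from hx.symm, pow_orderOf_eq_one])

include S in
theorem exists_inverting {x : G} (hx : orderOf x = 13) :
    ∃ t, orderOf t = 2 ∧ t ∈ Subgroup.normalizer (Subgroup.zpowers x : Set G) ∧ ¬ Commute t x ∧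
      t * x * t⁻¹ = x⁻¹ := by
  have : Fact (Nat.Prime 2) := ⟨Nat.prime_two⟩
  obtain ⟨a, k, -, -, hN, hk⟩ := card_normalizer_cases S hx
  obtain ⟨t, ht⟩ := exists_prime_orderOf_dvd_card' (G := Subgroup.normalizer (Subgroup.zpowers x : Set G)) 2 (by
    rw [hN]; exact Dvd.dvd.mul_left (by omega) _)
  rw [← Subgroup.orderOf_coe] at ht
  have htC : ¬ Commute (t : G) x := fun h => not_commute_invol S hx (thirteen_free S hx) ht h.symm
  exact ⟨t, ht, t.2, htC, inverting hx ht t.2 htC⟩

include S in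
/-- the transpositions fixed by an inverting involution, spread by the centraliser -/
theorem card_mul_tfix_le {x t : G} (hx : orderOf x = 13)
    (htn : ∀ g, Commute g x → Commute (t * g * t⁻¹) x) :
    Nat.card (Subgroup.centralizer ({x} : Set G)) * (tfix D t).ncard ≤
      D.ncard * Nat.card (Subgroup.centralizer ({x} : Set G) ⊓ Subgroup.centralizer ({t} : Set G) : Subgroup G) := by
  classical
  set C := Subgroup.centralizer ({x} : Set G)
  set C0 := C ⊓ Subgroup.centralizer ({t} : Set G)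
  let f : C × tfix D t → D := fun p => ⟨p.1.1 * p.2.1 * p.1.1⁻¹, S.hD.2.1 _ _ p.2.2.1⟩
  let base : Set.range f → C × tfix D t := fun d => d.2.choose
  have hbase : ∀ d, f (base d) = d.1 := fun d => d.2.choose_spec
  let w : C × tfix D t → G := fun p => (base ⟨f p, p, rfl⟩).1.1⁻¹ * p.1.1
  have hw : ∀ p, w p ∈ C0 := by
    intro p
    set q := base ⟨f p, p, rfl⟩
    have he : q.1.1 * q.2.1 * q.1.1⁻¹ = p.1.1 * p.2.1 * p.1.1⁻¹ := congrArg Subtype.val (hbase ⟨f p, p, rfl⟩)
    set v := q.1.1⁻¹ * p.1.1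
    have hv : v * p.2.1 * v⁻¹ = q.2.1 := by
      calc v * p.2.1 * v⁻¹ = q.1.1⁻¹ * (p.1.1 * p.2.1 * p.1.1⁻¹) * q.1.1 := by simp only [v]; group
        _ = q.2.1 := by rw [← he]; group
    have hvC : v ∈ C := mul_mem (inv_mem q.1.2) p.1.2
    refine Subgroup.mem_inf.mpr ⟨hvC, Subgroup.mem_centralizer_singleton_iff.mpr ?_⟩
    have hfix : ∀ u : tfix D t, t * u.1 * t⁻¹ = u.1 := fun u => by rw [u.2.2.eq, mul_inv_cancel_right]
    have hv' : t * v * t⁻¹ * p.2.1 * (t * v * t⁻¹)⁻¹ = q.2.1 := by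
      calc t * v * t⁻¹ * p.2.1 * (t * v * t⁻¹)⁻¹
          = t * v * t⁻¹ * (t * p.2.1 * t⁻¹) * (t * v * t⁻¹)⁻¹ := by rw [hfix]
        _ = t * (v * p.2.1 * v⁻¹) * t⁻¹ := by group
        _ = q.2.1 := by rw [hv, hfix]
    set v' := t * v * t⁻¹
    have hone : v⁻¹ * v' = 1 := by
      refine centralizer_free S hx (g := v⁻¹ * v') ?_ p.2.2.1 ?_
      · exact (Commute.inv_left (Subgroup.mem_centralizer_singleton_iff.mp hvC)).mul_left
          (htn v (Subgroup.mem_centralizer_singleton_iff.mp hvC))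
      · show v⁻¹ * v' * p.2.1 = p.2.1 * (v⁻¹ * v')
        calc v⁻¹ * v' * p.2.1 = v⁻¹ * (v' * p.2.1 * v'⁻¹) * v' := by group
          _ = v⁻¹ * (v * p.2.1 * v⁻¹) * v' := by rw [hv', hv]
          _ = p.2.1 * (v⁻¹ * v') := by group
    have := inv_mul_eq_one.mp hone
    show v * t = t * v
    nth_rw 1 [this]
    simp [v']
  have h := Nat.card_le_card_of_injective
    (fun p : C × tfix D t => ((f p, ⟨w p, hw p⟩) : D × C0)) fun p p' h => by
      obtain ⟨h1, h2⟩ := Prod.mk.inj h
      have h2' : w p = w p' := congrArg Subtype.val h2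
      have hq : base ⟨f p, p, rfl⟩ = base ⟨f p', p', rfl⟩ := congrArg base (Subtype.ext h1)
      simp only [w, hq, mul_right_inj] at h2'
      have h1' : p.1.1 * p.2.1 * p.1.1⁻¹ = p'.1.1 * p'.2.1 * p'.1.1⁻¹ := congrArg Subtype.val h1
      rw [h2'] at h1'
      exact Prod.ext (Subtype.ext h2') (Subtype.ext (by simpa using h1'))
  rwa [Nat.card_prod, Nat.card_prod, Nat.card_coe_set_eq, Nat.card_coe_set_eq] at h

include S in
theorem centralizer_small {x : G} (hx : orderOf x = 13) :
    Nat.card (Subgroup.normalizer (Subgroup.zpowers x : Set G)) = 78 ∧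
      (Nat.card (Subgroup.centralizer ({x} : Set G)) = 13 ∨
        Nat.card (Subgroup.centralizer ({x} : Set G)) = 39) := by
  obtain ⟨a, k, -, hC, hN, hk⟩ := card_normalizer_cases S hx
  set C := Subgroup.centralizer ({x} : Set G)
  have hfree : ∀ g ∈ C, ∀ u ∈ D, Commute g u → g = 1 := fun g hg u hu hc =>
    centralizer_free S hx (Subgroup.mem_centralizer_singleton_iff.mp hg) hu hc
  have hD := card_dvd_stable (K := C) (U := D) (fun g _ u hu => S.hD.2.1 g u hu) hfree
  rw [ncard_class S, hC] at hD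
  have ha : a ≤ 3 := by
    by_contra hcon
    have h4 : 3 ^ 4 ∣ 3 ^ a := pow_dvd_pow 3 (by omega)
    exact absurd ((h4.trans (dvd_mul_left _ 13)).trans hD) (by norm_num)
  interval_cases a
  · exact ⟨by omega, Or.inl (by omega)⟩
  · exact ⟨by omega, Or.inr (by omega)⟩
  · omega
  exfalso
  obtain ⟨t, ht, htN, -, htx⟩ := exists_inverting S hx
  have htn : ∀ g, Commute g x → Commute (t * g * t⁻¹) x := fun g hg => by
    have h := hg.map (MulAut.conj t).toMonoidHom
    simp only [MulEquiv.coe_toMonoidHom, MulAut.conj_apply, htx] at h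
    simpa using h.inv_right
  have hle := card_mul_tfix_le S hx htn
  set C0 := C ⊓ Subgroup.centralizer ({t} : Set G)
  have hdiv : ∀ U : Set G, U ⊆ D → (∀ g ∈ C0, ∀ u ∈ U, g * u * g⁻¹ ∈ U) → Nat.card C0 ∣ U.ncard :=
    fun U hU hst => card_dvd_stable hst fun g hg u hu hc => hfree g (Subgroup.mem_inf.mp hg).1 u (hU hu) hc
  have hT := hdiv (tfix D t) (fun u hu => hu.1) fun g hg u hu => conj_mem_tfix S.hD
    (Subgroup.mem_centralizer_singleton_iff.mp (Subgroup.mem_inf.mp hg).2).symm hu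
  have hZ := hdiv (core (tfix D t)) (fun u hu => hu.1.1) fun g hg u hu => conj_mem_core S.hD
    (Subgroup.mem_centralizer_singleton_iff.mp (Subgroup.mem_inf.mp hg).2).symm hu
  have h351 : Nat.card C0 ∣ 351 := by
    have := Subgroup.card_dvd_of_le (inf_le_left : C0 ≤ C)
    rwa [hC] at this
  rw [hC, ncard_class S] at hle
  rcases invol_cases S ht with h | ⟨h, -⟩ | ⟨h, hcore, -⟩
  · have h1 : Nat.card C0 ∣ 1 := by
      have := Nat.dvd_gcd (h ▸ hT) h351
      norm_num at this
      simp [this]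
    rw [h, Nat.eq_one_of_dvd_one h1] at hle
    norm_num at hle
  · have h1 : Nat.card C0 ≤ 13 := by
      have := Nat.dvd_gcd (h ▸ hT) h351
      norm_num at this
      exact Nat.le_of_dvd (by norm_num) this
    rw [h] at hle
    omega
  · have h1 : Nat.card C0 ≤ 3 := by
      have := Nat.dvd_gcd (hcore ▸ hZ) h351
      norm_num at this
      exact Nat.le_of_dvd (by norm_num) this
    rw [h] at hle
    omega

end Cfsg.Agent.Lib.FischerMTypes.Thirteen
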