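import Mathlib
import Cfsg.Agent.Lib.Classif.PrimeExceptional
import Cfsg.Agent.Lib.DegreeBounds.Basic
import Cfsg.Agent.Lib.FischerMTypes.Prime.Basic

/-!
A group of order dividing `2^17 3^9 13` in which a subgroup of order 13 is self-centralising and
normalised by an involution only: it is not perfect. Consequently a central extension by an element of
order three has a normal subgroup holding the 13 and avoiding the involution.
-/

set_option autoImplicit false
set_option linter.style.haveILetI false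
set_option linter.unusedSectionVars false

namespace Cfsg.Agent.Lib.FischerMTypes.Thirteen

open Cfsg.Agent.Lib.FischerMTypes.PrimeOnce

universe u

theorem pow_pair_cases : ∀ a : Fin 18, ∀ b : Fin 10, 2 ^ (a : ℕ) + 1 = 3 ^ (b : ℕ) ∨ 3 ^ (b : ℕ) + 1 = 2 ^ (a : ℕ) →
    ((a : ℕ) = 0 ∨ (b : ℕ) = 0 ∨ (2 ^ (a : ℕ) % 13 ∉ [1, 12] ∧ 3 ^ (b : ℕ) % 13 ∉ [1, 12])) := by
  decide +kernel

/-- consecutive divisors of `2^17 3^9`, both above one, are not `± 1` modulo 13 -/
theorem consecutive_mod {d e : ℕ} (hd : d ∣ 2 ^ 17 * 3 ^ 9) (he : e ∣ 2 ^ 17 * 3 ^ 9) (hd2 : 2 ≤ d) (he2 : 2 ≤ e)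
    (h : d + 1 = e ∨ e + 1 = d) : d % 13 ≠ 1 ∧ d % 13 ≠ 12 := by
  have key : ∀ u v : ℕ, u ∣ 2 ^ 17 * 3 ^ 9 → v ∣ 2 ^ 17 * 3 ^ 9 → 2 ≤ u → 2 ≤ v → (u + 1 = v ∨ v + 1 = u) →
      2 ∣ u → ∃ a b, a < 18 ∧ b < 10 ∧ u = 2 ^ a ∧ v = 3 ^ b := by
    intro u v hu hv hu2 hv2 huv h2
    have h2v : ¬ 2 ∣ v := by omega
    obtain ⟨b, hb, rfl⟩ := (Nat.dvd_prime_pow Nat.prime_three).mp
      ((Nat.Coprime.dvd_mul_left (Nat.Coprime.pow_right 17 ((Nat.prime_two.coprime_iff_not_dvd.mpr h2v).symm))).mp hv)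
    have hb0 : b ≠ 0 := by rintro rfl; simp at hv2
    have h3u : ¬ 3 ∣ u := by
      have : 3 ∣ 3 ^ b := dvd_pow_self 3 hb0
      omega
    obtain ⟨a, ha, rfl⟩ := (Nat.dvd_prime_pow Nat.prime_two).mp
      ((Nat.Coprime.dvd_mul_right (Nat.Coprime.pow_right 9 ((Nat.prime_three.coprime_iff_not_dvd.mpr h3u).symm))).mp hu)
    exact ⟨a, b, by omega, by omega, rfl, rfl⟩
  by_cases h2 : 2 ∣ d
  · obtain ⟨a, b, ha, hb, rfl, rfl⟩ := key d e hd he hd2 he2 h h2
    rcases pow_pair_cases ⟨a, ha⟩ ⟨b, hb⟩ h with h0 | h0 | h0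
    · simp only at h0; subst h0; simp at hd2
    · simp only at h0; subst h0; simp at he2
    · simpa using h0.1
  · obtain ⟨a, b, ha, hb, rfl, rfl⟩ := key e d he hd he2 hd2 h.symm (by omega)
    rcases pow_pair_cases ⟨a, ha⟩ ⟨b, hb⟩ h.symm with h0 | h0 | h0
    · simp only at h0; subst h0; simp at he2
    · simp only at h0; subst h0; simp at hd2
    · simpa using h0.2

/-- such a group is not perfect -/
theorem not_perfect {R : Type u} [Group R] [Finite R] (hR : Nat.card R ∣ 2 ^ 17 * 3 ^ 9 * 13) {X : Subgroup R}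
    (hX : Nat.card X = 13) (hC : Subgroup.centralizer (X : Set R) = X)
    (hN : Nat.card (Subgroup.normalizer (X : Set R)) = 2 * 13) : commutator R ≠ ⊤ := by
  intro hperf
  haveI : Fact (Nat.Prime 13) := ⟨by norm_num⟩
  letI := Fintype.ofFinite R
  have hfac : (Nat.card R).factorization 13 = 1 := by
    refine factorization_eq ⟨hX ▸ Subgroup.card_subgroup_dvd_card X, fun h => ?_⟩
    have := h.trans hR
    norm_num at this
  let P := Sylow.ofCard X (show Nat.card X = 13 ^ (Nat.card R).factorization 13 by rw [hfac, hX, pow_one])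
  obtain ⟨fam⟩ := Classif.PrimeExceptional.exists_family P hX hC hN (Or.inl rfl) (by norm_num) (Or.inl rfl)
  have hK : fam.K.card = 1 := by have := fam.card_K; omega
  obtain ⟨χ, hχ⟩ := Finset.card_eq_one.mp hK
  have hrep := Classif.PrimeExceptional.card_rep P hX hC hN
  have hne : Nonempty (Induced.CNFamily.Rep (P : Subgroup R)) := by
    by_contra h
    rw [not_nonempty_iff] at h
    rw [Nat.card_of_isEmpty] at hrep
    norm_num at hrep
  obtain ⟨r⟩ := hne
  have hχ1 : χ ≠ Characters.Basic.oneChar R := fun h =>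
    fam.one_not_mem (by rw [hχ, Finset.mem_singleton]; exact h.symm)
  have d2 := Classif.PrimeExceptional.two_le_deg hperf χ hχ1
  have e2 := Classif.PrimeExceptional.two_le_deg hperf (fam.θ r) (fam.θ_not_mem r).2
  have hc1 := fam.cong_K χ (by simp [hχ])
  have hc2 := fam.cong_θ r
  have hsum := fam.degree_sum r
  rw [hχ, Finset.sum_singleton] at hsum
  set d := Classif.PrimeExceptional.deg χ
  set e := Classif.PrimeExceptional.deg (fam.θ r)
  have hdn : (d.natAbs) ∣ Nat.card R := by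
    rw [Classif.PrimeExceptional.natAbs_deg]; exact DegreeBounds.Basic.charDegree_dvd χ
  have hen : (e.natAbs) ∣ Nat.card R := by
    rw [Classif.PrimeExceptional.natAbs_deg]; exact DegreeBounds.Basic.charDegree_dvd (fam.θ r)
  have hlift : ∀ n : ℕ, n ∣ Nat.card R → ¬ 13 ∣ n → n ∣ 2 ^ 17 * 3 ^ 9 := fun n hn h13 =>
    (Nat.Coprime.dvd_mul_right ((Nat.Prime.coprime_iff_not_dvd (by norm_num)).mpr h13).symm).mp (hn.trans hR)
  rcases fam.σ_unit χ (by simp [hχ]) with hs | hs <;> rcases fam.ε_unit r with he | he <;>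
    rw [hs] at hsum hc1 <;> rw [he] at hsum hc2 <;> push_cast at hc2
  all_goals
    have h13d : ¬ 13 ∣ d.natAbs := by omega
    have h13e : ¬ 13 ∣ e.natAbs := by omega
    have hh := consecutive_mod (hlift _ hdn h13d) (hlift _ hen h13e) (by omega) (by omega) (by omega)
    omega

variable {K : Type u} [Group K] [Finite K]

/-- a normal subgroup holding `x` and not `t` -/
theorem exists_normal_avoiding (hK : Nat.card K ∣ 2 ^ 17 * 3 ^ 9 * 13) {x y t : K} (hx : orderOf x = 13)
    (hy : orderOf y = 3) (ht : orderOf t = 2) (hyc : ∀ g : K, Commute g y) (htx : t * x * t⁻¹ = x⁻¹)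
    (hC : ∀ g : K, Commute g x → ∃ i j : ℕ, g = x ^ i * y ^ j)
    (hN : ∀ g : K, g * x * g⁻¹ ∈ Subgroup.zpowers x → Commute g x ∨ Commute (g * t) x) :
    ∃ M : Subgroup K, M.Normal ∧ x ∈ M ∧ y ∈ M ∧ t ∉ M := by
  classical
  haveI : Fact (Nat.Prime 13) := ⟨by norm_num⟩
  have hxgen : x ∈ Subgroup.zpowers x := Subgroup.mem_zpowers x
  have hstep : ∀ n, t ∈ derivedSeries K n → x ∈ derivedSeries K n → x ∈ derivedSeries K (n + 1) := by
    intro n h1 h2
    rw [derivedSeries_succ]
    have h := Subgroup.commutator_mem_commutator h1 h2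
    rw [commutatorElement_def, htx, ← mul_inv_rev] at h
    have h' := inv_mem h
    rw [inv_inv] at h'
    have hx2 : x = (x * x) ^ 7 := by
      rw [← pow_two, ← pow_mul, show 2 * 7 = 13 + 1 from rfl, pow_succ, ← hx, pow_orderOf_eq_one, one_mul]
    rw [hx2]
    exact pow_mem h' 7
  have hin : ∀ n, t ∈ derivedSeries K n → x ∈ derivedSeries K n := by
    intro n
    induction n with
    | zero => exact fun _ => Subgroup.mem_top _
    | succ n ih =>
      intro h
      exact hstep n (derivedSeries_antitone K (Nat.le_succ n) h) (ih (derivedSeries_antitone K (Nat.le_succ n) h))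
  suffices hex : ∃ n, t ∉ derivedSeries K n by
    obtain ⟨n, hn, hmin⟩ : ∃ n, t ∉ derivedSeries K n ∧ ∀ m, m < n → t ∈ derivedSeries K m :=
      ⟨Nat.find hex, Nat.find_spec hex, fun m hm => by by_contra h; exact Nat.find_min hex hm h⟩
    have hn0 : n ≠ 0 := by rintro rfl; exact hn (Subgroup.mem_top _)
    obtain ⟨m, rfl⟩ : ∃ m, n = m + 1 := ⟨n - 1, by omega⟩
    have htm := hmin m (by omega)
    have hxM : x ∈ derivedSeries K (m + 1) := hstep m htm (hin m htm)
    haveI := derivedSeries_normal K (m + 1)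
    haveI hY : (Subgroup.zpowers y).Normal := ⟨fun z hz g => by
      obtain ⟨k, rfl⟩ := Subgroup.mem_zpowers_iff.mp hz
      rw [((hyc g).zpow_right k).eq, mul_inv_cancel_right]
      exact zpow_mem (Subgroup.mem_zpowers y) k⟩
    refine ⟨derivedSeries K (m + 1) ⊔ Subgroup.zpowers y, inferInstance, Subgroup.mem_sup_left hxM,
      Subgroup.mem_sup_right (Subgroup.mem_zpowers y), fun h => hn ?_⟩
    obtain ⟨a, ha, b, hb, hab⟩ := Subgroup.mem_sup_of_normal_right.mp h
    obtain ⟨k, rfl⟩ := Subgroup.mem_zpowers_iff.mp hb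
    have hb3 : (y ^ k) ^ 3 = 1 := by
      rw [← zpow_natCast, ← zpow_mul, mul_comm, zpow_mul, zpow_natCast, ← hy, pow_orderOf_eq_one, one_zpow]
    have : t = a ^ 3 := by
      have e1 : t ^ 3 = t := by
        rw [pow_succ, show t ^ 2 = 1 from ht ▸ pow_orderOf_eq_one t, one_mul]
      rw [← e1, ← hab, ((hyc a).zpow_right k).mul_pow, hb3, mul_one]
    rw [this]
    exact pow_mem ha 3
  by_contra hall
  push Not at hall
  obtain ⟨n, hn⟩ : ∃ n, derivedSeries K (n + 1) = derivedSeries K n := by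
    have hex : ∃ c n, Nat.card (derivedSeries K n) = c := ⟨_, 0, rfl⟩
    obtain ⟨n, hn⟩ := Nat.find_spec hex
    refine ⟨n, Subgroup.eq_of_le_of_card_ge (derivedSeries_antitone K (Nat.le_succ n)) ?_⟩
    rw [hn]
    exact Nat.find_min' hex ⟨n + 1, rfl⟩
  set R := derivedSeries K n
  have htR : t ∈ R := hall n
  have hxR : x ∈ R := hin n htR
  have hperf : commutator R = ⊤ := Subgroup.map_injective R.subtype_injective (by
    rw [Subgroup.map_subtype_commutator, ← MonoidHom.range_eq_map, Subgroup.range_subtype, ← derivedSeries_succ, hn])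
  set Z : Subgroup R := (Subgroup.zpowers y).subgroupOf R
  haveI hZn : Z.Normal := ⟨fun z hz g => by
    obtain ⟨k, hk⟩ := Subgroup.mem_zpowers_iff.mp (Subgroup.mem_subgroupOf.mp hz)
    rw [Subgroup.mem_subgroupOf]
    show (g : K) * z * (g : K)⁻¹ ∈ Subgroup.zpowers y
    rw [← hk, ((hyc g).zpow_right k).eq, mul_inv_cancel_right]
    exact zpow_mem (Subgroup.mem_zpowers y) k⟩
  let π : R →* R ⧸ Z := QuotientGroup.mk' Z
  have hπ : Function.Surjective π := QuotientGroup.mk'_surjective Z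
  set x' := π ⟨x, hxR⟩
  set t' := π ⟨t, htR⟩
  have hker : ∀ g : R, π g = 1 ↔ (g : K) ∈ Subgroup.zpowers y := fun g =>
    (QuotientGroup.eq_one_iff g).trans Subgroup.mem_subgroupOf
  have hsmall : ∀ z : K, z ∈ Subgroup.zpowers y → z ^ 3 = 1 := by
    rintro _ ⟨k, rfl⟩
    rw [← zpow_natCast, ← zpow_mul, mul_comm, zpow_mul, zpow_natCast, ← hy, pow_orderOf_eq_one, one_zpow]
  have hx' : orderOf x' = 13 := by
    refine orderOf_eq_prime ?_ fun h => ?_
    · rw [← map_pow, show (⟨x, hxR⟩ : R) ^ 13 = 1 from Subtype.ext (by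
        show x ^ 13 = 1; rw [← hx]; exact pow_orderOf_eq_one x), map_one]
    · have h3 := hsmall x ((hker _).mp h)
      have := orderOf_dvd_of_pow_eq_one h3
      rw [hx] at this
      norm_num at this
  set P := Subgroup.zpowers x'
  have hP : Nat.card P = 13 := by rw [Nat.card_zpowers, hx']
  -- a lift fixing or inverting
  have hlift : ∀ (g : R) (s : ℕ), π g * x' * (π g)⁻¹ = x' ^ s → (g : K) * x * (g : K)⁻¹ = x ^ s := by
    intro g s h
    have h1 : π (g * ⟨x, hxR⟩ * g⁻¹ * ((⟨x, hxR⟩ : R) ^ s)⁻¹) = 1 := by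
      rw [map_mul, map_mul, map_mul, map_inv, map_inv, map_pow, h, mul_inv_cancel]
    have h2 : ((g : K) * x * (g : K)⁻¹ * (x ^ s)⁻¹) ∈ Subgroup.zpowers y := (hker _).mp h1
    set w := (g : K) * x * (g : K)⁻¹ * (x ^ s)⁻¹
    have hcw : Commute w (x ^ s) := by
      obtain ⟨k, hk⟩ := Subgroup.mem_zpowers_iff.mp h2
      rw [← hk]; exact ((hyc _).zpow_right k).symm
    have he : (g : K) * x * (g : K)⁻¹ = w * x ^ s := by simp only [w]; group
    have h13 : w ^ 13 = 1 := by
      have e2 : ((g : K) * x * (g : K)⁻¹) ^ 13 = 1 := by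
        rw [conj_pow, ← hx, pow_orderOf_eq_one]; group
      rw [he, hcw.mul_pow, ← pow_mul, mul_comm, pow_mul, ← hx, pow_orderOf_eq_one, one_pow, mul_one, hx] at e2
      exact e2
    have hw : w = 1 := by
      have := pow_gcd_eq_one.mpr ⟨hsmall w h2, h13⟩
      simpa using this
    rw [he, hw, one_mul]
  have hCP : Subgroup.centralizer (P : Set (R ⧸ Z)) = P := by
    refine le_antisymm (fun q hq => ?_) (le_centralizer_self hP)
    obtain ⟨g, rfl⟩ := hπ q
    have hc := Subgroup.mem_centralizer_iff.mp hq x' (Subgroup.mem_zpowers x')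
    have h1 := hlift g 1 (by rw [pow_one, ← hc, mul_inv_cancel_right])
    rw [pow_one] at h1
    obtain ⟨i, j, hij⟩ := hC g (mul_inv_eq_iff_eq_mul.mp h1)
    refine Subgroup.mem_zpowers_iff.mpr ⟨(i : ℤ), ?_⟩
    rw [zpow_natCast, ← mul_inv_eq_one, ← map_pow, ← map_inv, ← map_mul, hker]
    show x ^ i * (g : K)⁻¹ ∈ Subgroup.zpowers y
    rw [hij, mul_inv_rev, show x ^ i * ((y ^ j)⁻¹ * (x ^ i)⁻¹) = (y ^ j)⁻¹ by
      rw [← mul_assoc, (((hyc (x ^ i)).pow_right j).inv_right).eq, mul_inv_cancel_right]]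
    exact inv_mem (pow_mem (Subgroup.mem_zpowers y) j)
  have htx' : t' * x' * t'⁻¹ = x'⁻¹ := by
    rw [← map_inv, ← map_inv, ← map_mul, ← map_mul]
    exact congrArg π (Subtype.ext htx)
  have htN : t' ∈ Subgroup.normalizer (P : Set (R ⧸ Z)) := by
    refine Eleven.mem_normalizer_of_conj fun z hz => ?_
    obtain ⟨k, rfl⟩ := Subgroup.mem_zpowers_iff.mp hz
    rw [← conj_zpow, htx']
    exact zpow_mem (inv_mem (Subgroup.mem_zpowers x')) k
  have htP : t' ∉ P := fun h => by
    rw [← hCP] at h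
    have hc := Subgroup.mem_centralizer_iff.mp h x' (Subgroup.mem_zpowers x')
    rw [← hc, mul_inv_cancel_right] at htx'
    have h2 : x' ^ 2 = 1 := by rw [pow_two]; nth_rw 1 [htx']; rw [inv_mul_cancel]
    have := orderOf_dvd_of_pow_eq_one h2
    rw [hx'] at this
    norm_num at this
  have hcases : ∀ q ∈ Subgroup.normalizer (P : Set (R ⧸ Z)), q ∈ P ∨ q * t' ∈ P := by
    intro q hq
    obtain ⟨g, rfl⟩ := hπ q
    obtain ⟨k, hk⟩ : π g * x' * (π g)⁻¹ ∈ Submonoid.powers x' :=
      (isOfFinOrder_of_finite x').mem_powers_iff_mem_zpowers.mpr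
        (Eleven.conj_mem_of_mem_normalizer hq x' (Subgroup.mem_zpowers x'))
    have h1 := hlift g k hk.symm
    rw [← hCP]
    simp only [P, centralizer_zpowers, Subgroup.mem_centralizer_singleton_iff]
    rcases hN g (h1 ▸ pow_mem hxgen k) with h | h
    · left
      rw [← map_mul, ← map_mul]
      exact congrArg π (Subtype.ext h.eq)
    · right
      rw [← map_mul, ← map_mul, ← map_mul]
      exact congrArg π (Subtype.ext h.eq)
  have hN26 : Nat.card (Subgroup.normalizer (P : Set (R ⧸ Z))) = 2 * 13 := by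
    have hidx : (P.subgroupOf (Subgroup.normalizer (P : Set (R ⧸ Z)))).index = 2 := by
      rw [Subgroup.index_eq_two_iff]
      refine ⟨⟨t', htN⟩, fun b => ?_⟩
      simp only [Subgroup.mem_subgroupOf, Subgroup.coe_mul]
      by_cases hb : (b : R ⧸ Z) ∈ P
      · exact Or.inr ⟨hb, fun h => htP ((Subgroup.mul_mem_cancel_left P hb).mp h)⟩
      · exact Or.inl ⟨(hcases b b.2).resolve_left hb, hb⟩
    rw [← Subgroup.card_mul_index (P.subgroupOf _),
      Nat.card_congr (Subgroup.subgroupOfEquivOfLe Subgroup.le_normalizer).toEquiv, hP, hidx]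
  refine not_perfect ((Subgroup.card_quotient_dvd_card Z).trans ((Subgroup.card_subgroup_dvd_card R).trans hK))
    hP hCP hN26 ?_
  rw [eq_top_iff, ← Subgroup.map_top_of_surjective π hπ, ← hperf]
  simp only [commutator_def, Subgroup.map_commutator]
  exact Subgroup.commutator_mono le_top le_top

end Cfsg.Agent.Lib.FischerMTypes.Thirteen
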