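import Mathlib
import Cfsg.Agent.Lib.FischerMTypes.Thirteen.Centralizer
import Cfsg.Agent.Lib.FischerMTypes.Thirteen.Perfect

/-!
Type M(22): no element of order three commutes with one of order 13, so a subgroup of order 13 is its
own centraliser.
-/

set_option autoImplicit false
set_option linter.style.haveILetI false
set_option linter.unusedSectionVars false

namespace Cfsg.Agent.Lib.FischerMTypes.Thirteen

open Cfsg.Agent.Lib.FischerMTypes.Basic Cfsg.Agent.Lib.FischerMTypes.Primitive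
  Cfsg.Agent.Lib.FischerMTypes.TraceSize
open Cfsg.Agent.Lib.FischerMTypes.TraceCounts (Sys)

universe u

/-- a Sylow normaliser centralising it gives a normal complement inside a subgroup -/
theorem exists_complement {G : Type u} [Group G] [Finite G] {p : ℕ} [hp : Fact p.Prime] (h : PrimeOnce.Once p G)
    {M X : Subgroup G} (hX : Nat.card X = p) (hXM : X ≤ M)
    (hN : ∀ g ∈ M, g ∈ Subgroup.normalizer (X : Set G) → g ∈ Subgroup.centralizer (X : Set G)) :
    ∃ Q : Subgroup G, Q ≤ M ∧ M ≤ Subgroup.normalizer (Q : Set G) ∧ Nat.card Q * p = Nat.card M ∧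
      ¬ p ∣ Nat.card Q ∧ ∀ g ∈ M, g ^ p ∈ Q := by
  have hX' : Nat.card (X.subgroupOf M) = p := by
    rw [Nat.card_congr (Subgroup.subgroupOfEquivOfLe hXM).toEquiv, hX]
  have hM := PrimeOnce.once_subgroup h (hX ▸ Subgroup.card_dvd_of_le hXM)
  let P := Sylow.ofCard (X.subgroupOf M) (PrimeOnce.card_eq_pow hM hX')
  have hP : Subgroup.normalizer ((P : Subgroup M) : Set M) ≤ Subgroup.centralizer ((P : Subgroup M) : Set M) := by
    intro g hg
    have hg' : g ∈ Subgroup.normalizer ((X.subgroupOf M : Subgroup M) : Set M) := hg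
    rw [PrimeOnce.normalizer_subgroupOf hXM, Subgroup.mem_subgroupOf] at hg'
    rw [Subgroup.mem_centralizer_iff]
    exact fun w hw => Subtype.ext (Subgroup.mem_centralizer_iff.mp (hN g.1 g.2 hg') w.1 hw)
  set f := MonoidHom.transferSylow P hP
  have hc := (MonoidHom.ker_transferSylow_isComplement' P hP).card_mul_card
  rw [show Nat.card (P : Subgroup M) = p from hX', ← Subgroup.card_subtype] at hc
  refine ⟨f.ker.map M.subtype, Subgroup.map_subtype_le _, fun g hg => ?_, hc, fun hdvd => ?_, fun g hg => ?_⟩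
  · refine Eleven.mem_normalizer_of_conj ?_
    rintro _ ⟨w, hw, rfl⟩
    exact ⟨(⟨g, hg⟩ : M) * w * (⟨g, hg⟩ : M)⁻¹, (MonoidHom.normal_ker f).conj_mem w hw ⟨g, hg⟩, rfl⟩
  · refine hM.2 ?_
    rw [← hc, pow_two]
    exact mul_dvd_mul hdvd dvd_rfl
  · refine ⟨⟨g, hg⟩ ^ p, ?_, rfl⟩
    rw [SetLike.mem_coe, MonoidHom.mem_ker, map_pow]
    exact orderOf_dvd_iff_pow_eq_one.mp ((orderOf_dvd_natCard _).trans (dvd_of_eq hX'))

variable {G : Type u} [Group G] [Finite G] {D : Set G}
variable {F : Type} [Field F] [Fintype F]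
variable (S : Sys D F)

/-- the involutions commuting with `y` -/
abbrev invols (y : G) : Set G := {t | orderOf t = 2 ∧ Commute y t}

include S in
/-- their number -/
theorem ncard_invols {y : G} (hy : orderOf y = 3) (hfree : ∀ d ∈ D, ¬ Commute y d) :
    (invols y).ncard % 36 = 9 ∧ (invols y).ncard ≤ 585 := by
  classical
  let : Fintype D := Fintype.ofFinite D
  have h1 := moved_congr S (hy ▸ pow_orderOf_eq_one y) hfree
  rw [ncard_moved S hy hfree] at h1
  have h2 : {d | d ∈ D ∧ Commute d (y * d * y⁻¹)}.ncard ≤ D.ncard :=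
    Set.ncard_le_ncard (fun d hd => hd.1) (Set.toFinite _)
  rw [ncard_moved S hy hfree, ncard_class S] at h2
  have e : (invols y).ncard = {t | orderOf t = 2 ∧ Commute y t}.ncard := rfl
  omega

theorem two_pow_cases : ∀ j : Fin 10, 13 ∣ 2 ^ (j : ℕ) - 1 → (j : ℕ) = 0 := by decide +kernel

include S in
/-- no two-group centralising `y` is normalised by an element of order 13 -/
theorem two_group_eq_bot {y z : G} (hy : orderOf y = 3) (hfree : ∀ d ∈ D, ¬ Commute y d) (hz : orderOf z = 13)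
    {R : Subgroup G} (hRy : ∀ r ∈ R, Commute y r) (h2 : IsPGroup 2 R) (hzR : ∀ r ∈ R, z * r * z⁻¹ ∈ R) :
    R = ⊥ := by
  classical
  by_contra hne
  have : Fact (Nat.Prime 2) := ⟨Nat.prime_two⟩
  have : Fact (Nat.Prime 13) := ⟨by norm_num⟩
  haveI : Nontrivial R := R.nontrivial_iff_ne_bot.mpr hne
  haveI := h2.center_nontrivial
  obtain ⟨n, hn, hcard⟩ := (h2.to_subgroup (Subgroup.center R)).exists_card_eq.imp fun n hn =>
    (⟨(by
      rintro rfl
      rw [pow_zero] at hn
      exact absurd hn (Finite.one_lt_card (α := Subgroup.center R)).ne'), hn⟩ :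
      n ≠ 0 ∧ Nat.card (Subgroup.center R) = 2 ^ n)
  let E : Subgroup G :=
    { carrier := {g | g ∈ R ∧ (∀ r ∈ R, Commute g r) ∧ g ^ 2 = 1}
      one_mem' := ⟨one_mem _, fun r _ => Commute.one_left r, one_pow 2⟩
      mul_mem' := fun {a b} ha hb => ⟨mul_mem ha.1 hb.1, fun r hr => (ha.2.1 r hr).mul_left (hb.2.1 r hr), by
        rw [(ha.2.1 b hb.1).mul_pow, ha.2.2, hb.2.2, one_mul]⟩
      inv_mem' := fun {a} ha => ⟨inv_mem ha.1, fun r hr => (ha.2.1 r hr).inv_left, by
        rw [inv_pow, ha.2.2, inv_one]⟩ }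
  obtain ⟨c, hc⟩ := exists_prime_orderOf_dvd_card' (G := Subgroup.center R) 2 (hcard ▸ dvd_pow_self 2 hn)
  rw [← Subgroup.orderOf_coe, ← Subgroup.orderOf_coe] at hc
  have hcE : ((c : R) : G) ∈ E := ⟨c.1.2, fun r hr =>
    (congrArg Subtype.val (Subgroup.mem_center_iff.mp c.2 ⟨r, hr⟩)).symm,
    hc ▸ pow_orderOf_eq_one _⟩
  obtain ⟨j, hj⟩ := (IsPGroup.to_le h2 (show E ≤ R from fun g hg => hg.1)).exists_card_eq
  set U := (E : Set G) \ {1}
  have hU : U.ncard + 1 = 2 ^ j := by
    rw [Set.ncard_sdiff_singleton_add_one (one_mem E) (Set.toFinite _), ← Nat.card_coe_set_eq]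
    exact hj
  have hUy : U ⊆ invols y := fun u hu => ⟨orderOf_eq_prime hu.1.2.2 hu.2, hRy u hu.1.1⟩
  have hzU : ∀ u ∈ U, z * u * z⁻¹ ∈ U := by
    rintro u ⟨⟨hu1, hu2, hu3⟩, hu4⟩
    refine ⟨⟨hzR u hu1, fun r hr => ?_, by rw [conj_pow, hu3]; simp⟩, by simpa using hu4⟩
    have hinv : ∀ (k : ℕ), ∀ r ∈ R, z ^ k * r * (z ^ k)⁻¹ ∈ R := by
      intro k
      induction k with
      | zero => simp
      | succ k ih =>
        intro r hr
        rw [pow_succ', show z * z ^ k * r * (z * z ^ k)⁻¹ = z * (z ^ k * r * (z ^ k)⁻¹) * z⁻¹ by group]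
        exact hzR _ (ih r hr)
    have hz12 : z ^ 12 = z⁻¹ :=
      eq_inv_of_mul_eq_one_left (by rw [← pow_succ, show 12 + 1 = orderOf z from hz.symm, pow_orderOf_eq_one])
    have h := (hu2 _ (hinv 12 r hr)).map (MulAut.conj z).toMonoidHom
    simpa [hz12, mul_assoc] using h
  have h13 : 13 ∣ U.ncard := by
    by_contra h
    obtain ⟨u, hu, hu'⟩ := Large.exists_fixed_elem (hz ▸ pow_orderOf_eq_one z) hzU h
    exact not_commute_invol S hz (thirteen_free S hz) (hUy hu).1 hu'
  have h585 := (Set.ncard_le_ncard hUy (Set.toFinite _)).trans (ncard_invols S hy hfree).2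
  have hpos : 0 < U.ncard := by
    rw [Set.ncard_pos (Set.toFinite _)]
    refine ⟨_, hcE, fun h => ?_⟩
    rw [Set.mem_singleton_iff] at h
    rw [h, orderOf_one] at hc
    omega
  have hj10 : j < 10 := by
    by_contra h
    have : 2 ^ 10 ≤ 2 ^ j := Nat.pow_le_pow_right (by norm_num) (by omega)
    omega
  have h0 : j = 0 := two_pow_cases ⟨j, hj10⟩ (by rw [← hU]; simpa using h13)
  rw [h0] at hU
  omega

include S in
/-- a normal complement to a subgroup of order 13 in a subgroup centralising `y` has odd order -/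
theorem complement_odd {y : G} (hy : orderOf y = 3) (hfree : ∀ d ∈ D, ¬ Commute y d) {Q M : Subgroup G}
    (hQM : Q ≤ M) (hMQ : M ≤ Subgroup.normalizer (Q : Set G)) (hMy : ∀ g ∈ M, Commute y g)
    (hcard : Nat.card Q * 13 = Nat.card M) (h13 : ¬ 13 ∣ Nat.card Q) : ¬ 2 ∣ Nat.card Q := by
  intro h2
  have : Fact (Nat.Prime 2) := ⟨Nat.prime_two⟩
  have : Fact (Nat.Prime 13) := ⟨by norm_num⟩
  let P : Sylow 2 Q := default
  obtain ⟨z, -, hz, hzP⟩ := Large.exists_normalising hQM hMQ (l := 13) (hcard ▸ dvd_mul_left 13 _) h13 P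
  have hbot := two_group_eq_bot S hy hfree hz
    (R := (P : Subgroup Q).map Q.subtype) (fun r hr => hMy r (hQM (Subgroup.map_subtype_le _ hr)))
    (P.isPGroup'.map Q.subtype) hzP
  have h1 : Nat.card (P : Subgroup Q) = 1 := by
    rw [← Subgroup.card_subtype, hbot, Subgroup.card_bot]
  have h2' := Sylow.dvd_card_of_dvd_card P h2
  rw [h1] at h2'
  norm_num at h2'

include S in
/-- the primes dividing the centraliser of `y` -/
theorem card_centralizer_dvd {y : G} (hy : orderOf y = 3) (hfree : ∀ d ∈ D, ¬ Commute y d) :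
    Nat.card (Subgroup.centralizer ({y} : Set G)) ∣ 2 ^ 17 * 3 ^ 9 * 13 := by
  set K := Subgroup.centralizer ({y} : Set G)
  have : Fact (Nat.Prime 3) := ⟨Nat.prime_three⟩
  have hy3 : y ^ 3 = 1 := hy ▸ pow_orderOf_eq_one y
  have key : ∀ p, p.Prime → p ∈ [5, 7, 11] → ¬ p ∣ Nat.card K := by
    intro p hp hmem hdvd
    have : Fact p.Prime := ⟨hp⟩
    obtain ⟨z, hz⟩ := exists_prime_orderOf_dvd_card' (G := K) p hdvd
    rw [← Subgroup.orderOf_coe] at hz
    have hc : Commute y (z : G) := (Subgroup.mem_centralizer_singleton_iff.mp z.2).symm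
    set Z := Subgroup.zpowers (z : G)
    have hZ : Nat.card Z = p := by rw [Nat.card_zpowers, hz]
    set T := Eleven.fixed D Z
    have hyT : ∀ t ∈ T, y * t * y⁻¹ ∈ T := fun t ht =>
      Large.conj_fixed_of_commute S.hD.2.1 (S := Z) (fun s hs => by
        obtain ⟨k, rfl⟩ := Subgroup.mem_zpowers_iff.mp hs
        exact hc.zpow_right k) ht
    have hfix : T.ncard % 3 ≠ 0 → False := fun h => by
      obtain ⟨t, ht, ht'⟩ := Large.exists_fixed_elem hy3 hyT (by omega)
      exact hfree t ht.1 ht'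
    simp only [List.mem_cons, List.not_mem_nil, or_false] at hmem
    rcases hmem with rfl | rfl | rfl
    · obtain ⟨C⟩ := ((Five.answer_one S).res Z hZ).coord
      refine hfix ?_
      rw [show T.ncard = Nat.card (Five.Kn 5) from C.ncard, Five.counts_five.size]
      norm_num
    · have R := (Seven.res_one S).2 Z hZ
      have hT : T.ncard = 3 := R.ncard
      obtain ⟨a, ha⟩ := (Set.ncard_pos (Set.toFinite _)).mp (show 0 < T.ncard by omega)
      set b := y * a * y⁻¹
      set c := y * b * y⁻¹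
      have hb : b ∈ T := hyT a ha
      have hc' : c ∈ T := hyT b hb
      have hab : a ≠ b := fun h => hfree a ha.1 (mul_inv_eq_iff_eq_mul.mp h.symm)
      have hbc : b ≠ c := fun h => hfree b hb.1 (mul_inv_eq_iff_eq_mul.mp h.symm)
      have hca : y * c * y⁻¹ = a := by
        calc y * c * y⁻¹ = y ^ 3 * a * (y ^ 3)⁻¹ := by simp only [c, b, pow_succ, pow_zero, one_mul]; group
          _ = a := by rw [hy3]; simp
      have hac : a ≠ c := fun h => hfree c hc'.1 (mul_inv_eq_iff_eq_mul.mp (hca.trans h))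
      have hset : T = {a, b, c} := by
        refine (Set.eq_of_subset_of_ncard_le ?_ ?_ (Set.toFinite _)).symm
        · rintro w (rfl | rfl | rfl) <;> assumption
        · rw [hT, Set.ncard_eq_three.mpr ⟨a, b, c, hab, hac, hbc, rfl⟩]
      have hncomm : ¬ Commute a b := by
        intro h
        have hbc' : Commute b c := h.map (MulAut.conj y).toMonoidHom
        have hca' : Commute c a := by
          have := hbc'.map (MulAut.conj y).toMonoidHom
          simpa [← hca, MulAut.conj_apply, c] using this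
        have hall : ∀ u ∈ Subgroup.closure T, ∀ v ∈ Subgroup.closure T, Commute u v := by
          intro u hu v hv
          refine Levels.commute_closure (u := u) (fun w hw => ?_) v hv
          refine (Levels.commute_closure (u := w) (fun w' hw' => ?_) u hu).symm
          rw [hset] at hw hw'
          rcases hw with rfl | rfl | rfl <;> rcases hw' with rfl | rfl | rfl
          exacts [Commute.refl _, h, hca'.symm, h.symm, Commute.refl _, hbc', hca', hbc'.symm, Commute.refl _]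
        obtain ⟨e⟩ := R.iso
        have h2 : ∀ σ τ : Equiv.Perm (Fin 3), σ * τ = τ * σ := fun σ τ => by
          have := Subtype.ext (hall _ (e.symm σ).2 _ (e.symm τ).2).eq (a1 := e.symm σ * e.symm τ)
            (a2 := e.symm τ * e.symm σ)
          simpa using congrArg e this
        exact absurd (h2 (Equiv.swap 0 1) (Equiv.swap 1 2)) (by decide)
      have hbr : b * a * b = a * b * a := (braid S.hD.1 ha.1 hb.1 hncomm).symm
      set s := a * b
      have hsa : s * a * s⁻¹ = b := by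
        simp only [s]
        rw [mul_inv_rev, inv_eq_of_mul_eq_one_right (mul_self S.hD.1 hb.1), inv_eq_of_mul_eq_one_right (mul_self S.hD.1 ha.1)]
        calc a * b * a * (b * a) = a * (b * a * b) * a := by group
          _ = a * (a * b * a) * a := by rw [hbr]
          _ = b := by
              rw [show a * (a * b * a) * a = a * a * b * (a * a) by group, mul_self S.hD.1 ha.1]
              simp
      have hsT : ∀ t ∈ T, s * t * s⁻¹ ∈ T := by
        have hmem : s ∈ Subgroup.centralizer (Z : Set G) := mul_mem ha.2 hb.2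
        intro t ht
        exact ⟨S.hD.2.1 _ _ ht.1, mul_mem (mul_mem hmem ht.2) (inv_mem hmem)⟩
      have hsb : s * b * s⁻¹ = c := by
        have h := hsT b hb
        rw [hset] at h
        rcases h with h | h | h
        · exfalso
          refine hncomm ?_
          have h' : a * b * a = a := by
            simpa [s, inv_eq_of_mul_eq_one_right (mul_self S.hD.1 ha.1), inv_eq_of_mul_eq_one_right (mul_self S.hD.1 hb.1), mul_assoc, mul_self S.hD.1 hb.1] using h
          have hb1 : b = a := by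
            have := congrArg (fun w => a * w * a) h'
            rw [show a * (a * b * a) * a = a * a * b * (a * a) by group, mul_self S.hD.1 ha.1, one_mul, mul_one] at this
            simpa using this
          exact absurd hb1.symm hab
        · exact absurd ((mul_left_cancel (a := s) (b := b) (c := a)
            (mul_right_cancel (h.trans hsa.symm)))).symm hab
        · exact h
      set w := s⁻¹ * y
      have hwa : w * a * w⁻¹ = a := by
        calc w * a * w⁻¹ = s⁻¹ * b * s := by simp only [w, b]; group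
          _ = a := by rw [← hsa]; group
      have hwb : w * b * w⁻¹ = b := by
        calc w * b * w⁻¹ = s⁻¹ * c * s := by simp only [w, c]; group
          _ = b := by rw [← hsb]; group
      have hwc : w * c * w⁻¹ = c := by
        have h := hyT c hc'
        have hwT : w * c * w⁻¹ ∈ T := by
          have hsinv : s⁻¹ ∈ Subgroup.centralizer (Z : Set G) := inv_mem (mul_mem ha.2 hb.2)
          rw [show w * c * w⁻¹ = s⁻¹ * (y * c * y⁻¹) * s⁻¹⁻¹ by simp only [w]; group]
          exact ⟨S.hD.2.1 _ _ h.1, mul_mem (mul_mem hsinv h.2) (inv_mem hsinv)⟩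
        rw [hset] at hwT
        rcases hwT with h' | h' | h'
        · exact absurd (mul_left_cancel (mul_right_cancel (h'.trans hwa.symm))) hac.symm
        · exact absurd (mul_left_cancel (mul_right_cancel (h'.trans hwb.symm))) hbc.symm
        · exact h'
      have hwC : w ∈ Subgroup.centralizer (Z : Set G) ⊓ Subgroup.centralizer T := by
        refine Subgroup.mem_inf.mpr ⟨mul_mem (inv_mem (mul_mem ha.2 hb.2)) ?_, ?_⟩
        · rw [PrimeOnce.centralizer_zpowers]
          exact Subgroup.mem_centralizer_singleton_iff.mpr hc.eq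
        · rw [Subgroup.mem_centralizer_iff, hset]
          rintro u (rfl | rfl | rfl)
          exacts [(mul_inv_eq_iff_eq_mul.mp hwa).symm, (mul_inv_eq_iff_eq_mul.mp hwb).symm,
            (mul_inv_eq_iff_eq_mul.mp hwc).symm]
      have h7 : w ^ 7 = 1 := by
        have := Subgroup.orderOf_dvd_natCard _ hwC
        rw [R.cen] at this
        exact orderOf_dvd_iff_pow_eq_one.mp this
      have hcwa : Commute w a := mul_inv_eq_iff_eq_mul.mp hwa
      have hcwb : Commute w b := mul_inv_eq_iff_eq_mul.mp hwb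
      have hys : y = s * w := by simp only [w]; group
      have hs3 : s ^ 3 = 1 := by
        rw [pow_succ, pow_two, show a * b * (a * b) * (a * b) = a * b * a * (b * a * b) by group, hbr,
          show a * b * a * (a * b * a) = a * (b * (a * a) * b) * a by group, mul_self S.hD.1 ha.1]
        simp [mul_self S.hD.1 hb.1, mul_self S.hD.1 ha.1]
      have hw1 : w = 1 := by
        have h3 : w ^ 3 = 1 := by
          have h := hy3
          rw [hys, (hcwa.mul_right hcwb).symm.mul_pow, hs3, one_mul] at h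
          exact h
        simpa using pow_gcd_eq_one.mpr ⟨h3, h7⟩
      rw [hw1, mul_one] at hys
      obtain ⟨d, hd⟩ := (Set.ncard_pos (Set.toFinite _)).mp (show 0 < (perp₂ D a b).ncard by
        rw [ncard_trace S ha.1 hb.1 hncomm]; norm_num)
      exact hfree d hd.1.1 (hys ▸ hd.1.2.2.mul_left hd.2.2.2)
    · refine hfix ?_
      rw [show T.ncard = 1 from (Eleven.local_one S).ncard Z hZ]
      norm_num
  have hco : ∀ p, p.Prime → p ∈ [5, 7, 11] → ∀ n, (Nat.card K).Coprime (p ^ n) := fun p hp hmem n =>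
    Nat.Coprime.pow_right n ((hp.coprime_iff_not_dvd.mpr (key p hp hmem)).symm)
  refine Nat.Coprime.dvd_of_dvd_mul_right (n := 5 ^ 2 * 7 ^ 1 * 11 ^ 1) ?_ ?_
  · exact ((hco 5 Nat.prime_five (by simp) 2).mul_right (hco 7 (by norm_num) (by simp) 1)).mul_right
      (hco 11 (by norm_num) (by simp) 1)
  · refine (Subgroup.card_subgroup_dvd_card K).trans (dvd_of_eq ?_)
    rw [OrderWidth.card_group S]
    norm_num

/-- an odd element inverted by an involution moves it to their product -/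
theorem exists_conj_eq {G : Type u} [Group G] {m t : G} (hm : Odd (orderOf m)) (ht : t * t = 1)
    (h : (m * t) * (m * t) = 1) : ∃ j : ℕ, m ^ j * t * (m ^ j)⁻¹ = m * t := by
  obtain ⟨l, hl⟩ := hm
  refine ⟨l + 1, ?_⟩
  have hinv : t * m * t⁻¹ = m⁻¹ := by
    rw [inv_eq_of_mul_eq_one_right ht]
    exact eq_inv_of_mul_eq_one_right (by simpa [mul_assoc] using h)
  have hp : t * (m ^ (l + 1))⁻¹ = m ^ (l + 1) * t := by
    rw [← mul_inv_eq_iff_eq_mul, ← inv_pow, ← conj_pow, ← inv_inv (t * m⁻¹ * t⁻¹)]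
    rw [show (t * m⁻¹ * t⁻¹)⁻¹ = t * m * t⁻¹ by group, hinv, inv_inv]
  rw [mul_assoc, hp, ← mul_assoc, ← pow_add, show l + 1 + (l + 1) = orderOf m + 1 by omega, pow_add,
    pow_orderOf_eq_one, one_mul, pow_one]

include S in
theorem no_thirty_nine {x y t : G} (hx : orderOf x = 13) (hy : orderOf y = 3) (hxy : Commute x y)
    (hC : Nat.card (Subgroup.centralizer ({x} : Set G)) = 39)
    (hN : Nat.card (Subgroup.normalizer (Subgroup.zpowers x : Set G)) = 78) (ht : orderOf t = 2)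
    (htN : t ∈ Subgroup.normalizer (Subgroup.zpowers x : Set G)) (htC : ¬ Commute t x) (htx : t * x * t⁻¹ = x⁻¹) :
    False := by
  classical
  have : Fact (Nat.Prime 13) := ⟨by norm_num⟩
  have : Fact (Nat.Prime 3) := ⟨Nat.prime_three⟩
  set X := Subgroup.zpowers x
  set C := Subgroup.centralizer ({x} : Set G)
  set NX := Subgroup.normalizer (X : Set G)
  set K := Subgroup.centralizer ({y} : Set G)
  have hXcard : Nat.card X = 13 := by rw [Nat.card_zpowers, hx]
  have hx13 : x ^ 13 = 1 := hx ▸ pow_orderOf_eq_one x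
  have hy3 : y ^ 3 = 1 := hy ▸ pow_orderOf_eq_one y
  have ht2 : t * t = 1 := by rw [← pow_two, ← ht, pow_orderOf_eq_one]
  have hfree : ∀ d ∈ D, ¬ Commute y d := no_fixed S hx hy hxy (thirteen_free S hx)
  have hxC : x ∈ C := Subgroup.mem_centralizer_singleton_iff.mpr rfl
  have hyC : y ∈ C := Subgroup.mem_centralizer_singleton_iff.mpr hxy.symm.eq
  have hCeq : C = Subgroup.zpowers (x * y) := by
    refine (Subgroup.eq_of_le_of_card_ge (Subgroup.zpowers_le.mpr (mul_mem hxC hyC)) ?_).symm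
    rw [hC, Nat.card_zpowers, hxy.orderOf_mul_eq_mul_orderOf_of_coprime (by rw [hx, hy]; norm_num), hx, hy]
  have hCform : ∀ g : G, Commute g x → ∃ i j : ℕ, g = x ^ i * y ^ j := by
    intro g hg
    have h : g ∈ C := Subgroup.mem_centralizer_singleton_iff.mpr hg.eq
    rw [hCeq] at h
    obtain ⟨i, hi⟩ := (isOfFinOrder_of_finite (x * y)).mem_powers_iff_mem_zpowers.mpr h
    exact ⟨i, i, by rw [← hxy.mul_pow]; exact hi.symm⟩
  have hCle : C ≤ K := by
    intro g hg
    obtain ⟨i, j, rfl⟩ := hCform g (Subgroup.mem_centralizer_singleton_iff.mp hg)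
    exact Subgroup.mem_centralizer_singleton_iff.mpr ((hxy.pow_left i).mul_left ((Commute.refl y).pow_left j)).eq
  have hXC : X ≤ C := Subgroup.zpowers_le.mpr hxC
  have hCN : C ≤ NX := by
    have h := Subgroup.centralizer_le_normalizer (X : Set G)
    rwa [PrimeOnce.centralizer_zpowers] at h
  have hidx : (C.subgroupOf NX).index = 2 := by
    have h := Subgroup.card_mul_index (C.subgroupOf NX)
    rw [Nat.card_congr (Subgroup.subgroupOfEquivOfLe hCN).toEquiv, hC, hN] at h
    omega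
  have htC' : t ∉ C := fun h => htC (Subgroup.mem_centralizer_singleton_iff.mp h)
  have hcases : ∀ g ∈ NX, g ∈ C ∨ g * t ∈ C := by
    intro g hg
    by_cases h : g ∈ C
    · exact Or.inl h
    · right
      have := (Subgroup.mul_mem_iff_of_index_two hidx (a := ⟨g, hg⟩) (b := ⟨t, htN⟩)).mpr
      simp only [Subgroup.mem_subgroupOf, Subgroup.coe_mul] at this
      exact this ⟨fun hh => absurd hh h, fun hh => absurd hh htC'⟩
  obtain ⟨hN36, hN585⟩ := ncard_invols S hy hfree
  set I := invols y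
  have hItwo : 2 ∣ Nat.card K := by
    obtain ⟨u, hu1, hu2⟩ := (Set.ncard_pos (Set.toFinite I)).mp (by omega)
    rw [← hu1]
    exact Subgroup.orderOf_dvd_natCard _ (Subgroup.mem_centralizer_singleton_iff.mpr hu2.symm.eq)
  by_cases htK : t ∈ K
  swap
  · obtain ⟨Q, hQK, hKQ, hcard, h13, -⟩ := exists_complement (once_thirteen S) hXcard
      (hXC.trans hCle) (fun g hg hgN => by
        rw [PrimeOnce.centralizer_zpowers]
        rcases hcases g hgN with h | h
        · exact h
        · exact absurd ((mul_mem_cancel_left hg).mp (hCle h)) htK)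
    have hodd := complement_odd S hy hfree hQK hKQ
      (fun g hg => (Subgroup.mem_centralizer_singleton_iff.mp hg).symm) hcard h13
    omega
  have hty : Commute t y := Subgroup.mem_centralizer_singleton_iff.mp htK
  have hKdvd := card_centralizer_dvd S hy hfree
  obtain ⟨M', hM'n, hxM', hyM', htM'⟩ := exists_normal_avoiding (K := K) hKdvd
    (x := ⟨x, hCle hxC⟩) (y := ⟨y, hCle hyC⟩) (t := ⟨t, htK⟩) (by rw [Subgroup.orderOf_mk, hx])
    (by rw [Subgroup.orderOf_mk, hy]) (by rw [Subgroup.orderOf_mk, ht])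
    (fun g => Subtype.ext (Subgroup.mem_centralizer_singleton_iff.mp g.2))
    (Subtype.ext htx)
    (fun g hg => by
      obtain ⟨i, j, hij⟩ := hCform g.1 (congrArg Subtype.val hg.eq)
      exact ⟨i, j, Subtype.ext (by simpa using hij)⟩)
    (fun g hg => by
      obtain ⟨k, hk⟩ := Subgroup.mem_zpowers_iff.mp hg
      have hgx : (g : G) * x * (g : G)⁻¹ = x ^ k := by simpa using (congrArg Subtype.val hk).symm
      have hgN : (g : G) ∈ NX := Eleven.mem_normalizer_of_conj fun z hz => by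
        obtain ⟨l, rfl⟩ := Subgroup.mem_zpowers_iff.mp hz
        rw [← conj_zpow, hgx]
        exact zpow_mem (zpow_mem (Subgroup.mem_zpowers x) k) l
      rcases hcases g hgN with h | h
      · exact Or.inl (Subtype.ext (Subgroup.mem_centralizer_singleton_iff.mp h))
      · exact Or.inr (Subtype.ext (Subgroup.mem_centralizer_singleton_iff.mp h)))
  set M := M'.map K.subtype
  have hMK : M ≤ K := Subgroup.map_subtype_le _
  have hMn : ∀ g ∈ K, ∀ u ∈ M, g * u * g⁻¹ ∈ M := by
    rintro g hg _ ⟨u, hu, rfl⟩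
    exact ⟨⟨g, hg⟩ * u * ⟨g, hg⟩⁻¹, hM'n.conj_mem u hu ⟨g, hg⟩, rfl⟩
  have hxM : x ∈ M := ⟨_, hxM', rfl⟩
  have hyM : y ∈ M := ⟨_, hyM', rfl⟩
  have htM : t ∉ M := by
    rintro ⟨u, hu, he⟩
    exact htM' ((show u = ⟨t, htK⟩ from Subtype.ext he) ▸ hu)
  have hXM : X ≤ M := Subgroup.zpowers_le.mpr hxM
  have hCM : C ≤ M := by
    intro g hg
    obtain ⟨i, j, rfl⟩ := hCform g (Subgroup.mem_centralizer_singleton_iff.mp hg)
    exact mul_mem (pow_mem hxM i) (pow_mem hyM j)
  obtain ⟨Q, hQM, hMQ, hcard, h13, hpow⟩ := exists_complement (once_thirteen S) hXcard hXM (fun g hg hgN => by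
    rw [PrimeOnce.centralizer_zpowers]
    rcases hcases g hgN with h | h
    · exact h
    · exact absurd ((mul_mem_cancel_left hg).mp (hCM h)) htM)
  have hodd := complement_odd S hy hfree hQM hMQ
    (fun g hg => (Subgroup.mem_centralizer_singleton_iff.mp (hMK hg)).symm) hcard h13
  obtain ⟨q, hQ3⟩ : ∃ q, Nat.card Q = 3 ^ q := by
    have h1 : Nat.card Q ∣ 2 ^ 17 * 3 ^ 9 * 13 := (Subgroup.card_dvd_of_le (hQM.trans hMK)).trans hKdvd
    have h2 := ((Nat.Prime.coprime_iff_not_dvd (by norm_num)).mpr h13).symm.dvd_of_dvd_mul_right h1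
    have h3 := (Nat.Coprime.pow_right 17 ((Nat.prime_two.coprime_iff_not_dvd.mpr hodd).symm)).dvd_of_dvd_mul_left h2
    obtain ⟨q, -, hq⟩ := (Nat.dvd_prime_pow Nat.prime_three).mp h3
    exact ⟨q, hq⟩
  have hMcard : Nat.card M = 13 * 3 ^ q := by rw [← hcard, hQ3, mul_comm]
  have hModd : ∀ m ∈ M, Odd (orderOf m) := fun m hm =>
    (Odd.of_dvd_nat ((by decide : Odd 13).mul ((by decide : Odd 3).pow)) (hMcard ▸
      Subgroup.orderOf_dvd_natCard M hm))
  have hKM : ∀ g ∈ K, g ∈ M ∨ g * t ∈ M := by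
    intro g hg
    set Y := X.map (MulAut.conj g).toMonoidHom
    have hYM : Y ≤ M := by
      rintro _ ⟨u, hu, rfl⟩
      exact hMn g hg u (hXM hu)
    have hYcard : Nat.card Y = 13 := by
      rw [← Nat.card_congr (Subgroup.equivMapOfInjective X _ (MulAut.conj g).injective).toEquiv, hXcard]
    obtain ⟨m, hm⟩ := PrimeOnce.exists_conj (PrimeOnce.once_subgroup (once_thirteen S)
      (hXcard ▸ Subgroup.card_dvd_of_le hXM)) (X := Y.subgroupOf M) (Y := X.subgroupOf M)
      (by rw [Nat.card_congr (Subgroup.subgroupOfEquivOfLe hYM).toEquiv, hYcard])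
      (by rw [Nat.card_congr (Subgroup.subgroupOfEquivOfLe hXM).toEquiv, hXcard])
    have hmN : (m : G) * g ∈ NX := Eleven.mem_normalizer_of_conj fun u hu => by
      have hm' : (MulAut.conj m) (⟨g * u * g⁻¹, hMn g hg u (hXM hu)⟩ : M) ∈ X.subgroupOf M := by
        rw [← hm]
        exact ⟨_, (show (⟨g * u * g⁻¹, hMn g hg u (hXM hu)⟩ : M) ∈ Y.subgroupOf M from ⟨u, hu, rfl⟩), rfl⟩
      have hm'' : (m : G) * (g * u * g⁻¹) * (m : G)⁻¹ ∈ X := hm'
      rwa [show (m : G) * g * u * ((m : G) * g)⁻¹ = (m : G) * (g * u * g⁻¹) * (m : G)⁻¹ by group]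
    rcases hcases _ hmN with h | h
    · exact Or.inl ((mul_mem_cancel_left m.2).mp (hCM h))
    · refine Or.inr ((mul_mem_cancel_left m.2).mp ?_)
      rw [← mul_assoc]
      exact hCM h
  have hinM : ∀ u, orderOf u = 2 → u ∉ M := fun u hu hm => by
    have := hModd u hm
    rw [hu] at this
    exact (by decide : ¬ Odd 2) this
  have horb := Eleven.card_eq_orbit_mul (H := M) (O := I) (x := t)
    (fun m hm => ⟨by rw [← ht]; exact (MulEquiv.orderOf_eq (MulAut.conj m) t),
      have hc : Commute y m := (Subgroup.mem_centralizer_singleton_iff.mp (hMK hm)).symm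
      (hc.mul_right hty.symm).mul_right hc.inv_right⟩)
    (fun u hu => by
      have huK : u ∈ K := Subgroup.mem_centralizer_singleton_iff.mpr hu.2.symm.eq
      have hm := (hKM u huK).resolve_left (hinM u hu.1)
      have hu' : u * t * t = u := by rw [mul_assoc, ht2, mul_one]
      obtain ⟨j, hj⟩ := exists_conj_eq (hModd _ hm) ht2 (by
        rw [hu', ← pow_two, ← hu.1, pow_orderOf_eq_one])
      rw [hu'] at hj
      exact ⟨(u * t) ^ j, pow_mem hm j, hj⟩)
  set C0 := M ⊓ Subgroup.centralizer ({t} : Set G)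
  have hC013 : ¬ 13 ∣ Nat.card C0 := fun h => by
    obtain ⟨z, hz⟩ := exists_prime_orderOf_dvd_card' (G := C0) 13 h
    rw [← Subgroup.orderOf_coe] at hz
    exact not_commute_invol S hz (thirteen_free S hz) ht
      (Subgroup.mem_centralizer_singleton_iff.mp (Subgroup.mem_inf.mp z.2).2)
  obtain ⟨c, hcq, hC03⟩ : ∃ c, c ≤ q ∧ Nat.card C0 = 3 ^ c := by
    have h : Nat.card C0 ∣ 13 * 3 ^ q := hMcard ▸ Subgroup.card_dvd_of_le inf_le_left
    exact (Nat.dvd_prime_pow Nat.prime_three).mp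
      (((Nat.Prime.coprime_iff_not_dvd (by norm_num)).mpr hC013).symm.dvd_of_dvd_mul_left h)
  obtain ⟨e, rfl⟩ : ∃ e, q = c + e := ⟨q - c, by omega⟩
  rw [hMcard, hC03, pow_add] at horb
  have hIe : I.ncard = 13 * 3 ^ e :=
    (Nat.eq_of_mul_eq_mul_right (pow_pos (by norm_num) c)
      (show 13 * 3 ^ e * 3 ^ c = I.ncard * 3 ^ c by rw [← horb]; ring)).symm
  have he4 : e < 4 := by
    by_contra h
    have : 3 ^ 4 ≤ 3 ^ e := Nat.pow_le_pow_right (by norm_num) (by omega)
    omega
  obtain rfl : e = 2 := by interval_cases e <;> omega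
  clear he4
  -- inside the complement
  have hC0Q : C0 ≤ Q := fun g hg => by
    have h1 : g ^ 3 ^ c = 1 := orderOf_dvd_iff_pow_eq_one.mp (hC03 ▸ Subgroup.orderOf_dvd_natCard C0 hg)
    have h2 : g ^ 13 ∈ Q := hpow g (Subgroup.mem_inf.mp hg).1
    obtain ⟨i, hi⟩ : ∃ i : ℕ, 13 * i % 3 ^ c = 1 % 3 ^ c := by
      by_cases hc0 : c = 0
      · exact ⟨0, by simp [hc0]⟩
      obtain ⟨i, -, hi⟩ := Nat.exists_mul_mod_eq_one_of_coprime
        (show Nat.Coprime 13 (3 ^ c) from Nat.Coprime.pow_right _ (by norm_num))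
        (Nat.one_lt_pow hc0 (by norm_num))
      exact ⟨i, by rw [hi, Nat.mod_eq_of_lt (Nat.one_lt_pow hc0 (by norm_num))]⟩
    have : g = (g ^ 13) ^ i := by
      rw [← pow_mul, pow_eq_pow_mod _ h1, hi, ← pow_eq_pow_mod _ h1, pow_one]
    rw [this]
    exact pow_mem h2 i
  have hyQ : y ∈ Q := by
    have h := hpow y hyM
    rwa [show y ^ 13 = y by rw [pow_eq_pow_mod _ hy3]; norm_num] at h
  have hyC0 : y ∈ C0 := Subgroup.mem_inf.mpr ⟨hyM, Subgroup.mem_centralizer_singleton_iff.mpr hty.symm.eq⟩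
  set Yy := Subgroup.zpowers y
  have hYcard : Nat.card Yy = 3 := by rw [Nat.card_zpowers, hy]
  have hCQ : ∀ g ∈ Q, Commute g x → g ∈ Yy := fun g hg hgx => by
    obtain ⟨i, j, rfl⟩ := hCform g hgx
    have hxi : x ^ i ∈ Q := (mul_mem_cancel_right (pow_mem hyQ j)).mp hg
    have h1 : orderOf (x ^ i) ∣ Nat.card Q := Subgroup.orderOf_dvd_natCard Q hxi
    have h2 : orderOf (x ^ i) ∣ 13 := hx ▸ orderOf_pow_dvd i
    have h3 : orderOf (x ^ i) = 1 := by
      rcases (Nat.dvd_prime (by norm_num : Nat.Prime 13)).mp h2 with h | h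
      · exact h
      · exact absurd (h ▸ h1) h13
    rw [orderOf_eq_one_iff.mp h3, one_mul]
    exact pow_mem (Subgroup.mem_zpowers y) j
  have hxQ : ∀ (i : ℕ), ∀ g ∈ Q, x ^ i * g * (x ^ i)⁻¹ ∈ Q := fun i g hg =>
    Eleven.conj_mem_of_mem_normalizer (hMQ (pow_mem hxM i)) g hg
  have hsq : ∀ g, Commute (x ^ 2) g → Commute x g := fun g h => by
    have := h.pow_left 7
    rwa [← pow_mul, pow_eq_pow_mod _ hx13, show 2 * 7 % 13 = 1 from rfl, pow_one] at this
  have hsmall : Nat.card C0 ≤ 27 := by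
    have key : Nat.card C0 * Nat.card C0 ≤ Nat.card Q * Nat.card Yy := by
      let f : C0 × C0 → Q := fun p => ⟨p.1.1 * (x * p.2.1 * x⁻¹),
        mul_mem (hC0Q p.1.2) (by simpa using hxQ 1 _ (hC0Q p.2.2))⟩
      let base : Set.range f → C0 × C0 := fun d => d.2.choose
      have hbase : ∀ d, f (base d) = d.1 := fun d => d.2.choose_spec
      let w : C0 × C0 → G := fun p => (base ⟨f p, p, rfl⟩).1.1⁻¹ * p.1.1
      have hw : ∀ p, w p ∈ Yy := by
        intro p
        set r := base ⟨f p, p, rfl⟩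
        have he : r.1.1 * (x * r.2.1 * x⁻¹) = p.1.1 * (x * p.2.1 * x⁻¹) := congrArg Subtype.val (hbase ⟨f p, p, rfl⟩)
        set v := r.1.1⁻¹ * p.1.1
        have hvC : v ∈ C0 := mul_mem (inv_mem r.1.2) p.1.2
        set u := r.2.1 * p.2.1⁻¹
        have huC : u ∈ C0 := mul_mem r.2.2 (inv_mem p.2.2)
        have hvu : v = x * u * x⁻¹ := by
          calc v = r.1.1⁻¹ * (p.1.1 * (x * p.2.1 * x⁻¹)) * (x * p.2.1 * x⁻¹)⁻¹ := by simp only [v]; group
            _ = x * u * x⁻¹ := by rw [← he]; simp only [u]; group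
        have hcv := Subgroup.mem_centralizer_singleton_iff.mp (Subgroup.mem_inf.mp hvC).2
        have hcu := Subgroup.mem_centralizer_singleton_iff.mp (Subgroup.mem_inf.mp huC).2
        have h1 : x * u * x⁻¹ = x⁻¹ * u * x := by
          calc x * u * x⁻¹ = v * t * t⁻¹ := by rw [mul_inv_cancel_right, hvu]
            _ = t * v * t⁻¹ := by rw [hcv]
            _ = (t * x * t⁻¹) * (t * u * t⁻¹) * (t * x * t⁻¹)⁻¹ := by rw [hvu]; group
            _ = x⁻¹ * u * x := by rw [htx, ← hcu, mul_inv_cancel_right, inv_inv]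
        have h2 : Commute (x ^ 2) u := by
          show x ^ 2 * u = u * x ^ 2
          calc x ^ 2 * u = x * (x * u * x⁻¹) * x := by rw [pow_two]; group
            _ = x * (x⁻¹ * u * x) * x := by rw [h1]
            _ = u * x ^ 2 := by rw [pow_two]; group
        have h3 := hsq u h2
        have : v = u := by rw [hvu, h3.eq, mul_inv_cancel_right]
        exact hCQ v (hC0Q hvC) (this ▸ h3.symm)
      have h := Nat.card_le_card_of_injective (fun p : C0 × C0 => ((f p, ⟨w p, hw p⟩) : Q × Yy)) fun p p' h => by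
        obtain ⟨h1, h2⟩ := Prod.mk.inj h
        have h2' : w p = w p' := congrArg Subtype.val h2
        have hb : base ⟨f p, p, rfl⟩ = base ⟨f p', p', rfl⟩ := congrArg base (Subtype.ext h1)
        simp only [w, hb, mul_right_inj] at h2'
        have h1' : p.1.1 * (x * p.2.1 * x⁻¹) = p'.1.1 * (x * p'.2.1 * x⁻¹) := congrArg Subtype.val h1
        rw [h2'] at h1'
        exact Prod.ext (Subtype.ext h2') (Subtype.ext (by simpa using h1'))
      rwa [Nat.card_prod, Nat.card_prod] at h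
    rw [hC03, hQ3, hYcard, pow_add] at key
    rw [hC03]
    refine Nat.le_of_mul_le_mul_left ?_ (pow_pos (show 0 < 3 by norm_num) c)
    calc 3 ^ c * 3 ^ c ≤ 3 ^ c * 3 ^ 2 * 3 := key
      _ = 3 ^ c * 27 := by ring
  set U := (Q : Set G) \ (Yy : Set G)
  have hUcard : U.ncard + 3 = 3 ^ (c + 2) := by
    rw [← hQ3, ← hYcard]
    exact Set.ncard_sdiff_add_ncard_of_subset (s := (Yy : Set G)) (t := (Q : Set G)) (Subgroup.zpowers_le.mpr hyQ) (Set.toFinite _)
  have hxy' : ∀ i : ℕ, Commute (x ^ i) y := fun i => hxy.pow_left i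
  have hxU : ∀ u ∈ U, x * u * x⁻¹ ∈ U := fun u hu => by
    refine ⟨by simpa using hxQ 1 u hu.1, fun h => hu.2 ?_⟩
    obtain ⟨l, hl⟩ := Subgroup.mem_zpowers_iff.mp h
    refine Subgroup.mem_zpowers_iff.mpr ⟨l, ?_⟩
    have : u = x⁻¹ * y ^ l * x := by rw [hl]; group
    rw [this, ((hxy.zpow_right l).inv_left).eq, inv_mul_cancel_right]
  have h13U : 13 ∣ U.ncard := by
    by_contra h
    obtain ⟨u, hu, hu'⟩ := Large.exists_fixed_elem hx13 hxU h
    exact hu.2 (hCQ u hu.1 hu'.symm)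
  have hc3 : c ≤ 3 := by
    by_contra h
    have : 3 ^ 4 ≤ 3 ^ c := Nat.pow_le_pow_right (by norm_num) (by omega)
    omega
  have hc1 : c ≠ 0 := by
    rintro rfl
    have := Subgroup.card_dvd_of_le (Subgroup.zpowers_le.mpr hyC0 : Yy ≤ C0)
    rw [hYcard, hC03] at this
    norm_num at this
  obtain rfl : c = 2 := by interval_cases c <;> omega
  clear hc3
  set U0 := (C0 : Set G) \ (Yy : Set G)
  have hU0 : U0.ncard + 3 = 9 := by
    rw [← hYcard, show (9 : ℕ) = Nat.card C0 by rw [hC03]; rfl]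
    exact Set.ncard_sdiff_add_ncard_of_subset (s := (Yy : Set G)) (t := (C0 : Set G))
      (Subgroup.zpowers_le.mpr hyC0) (Set.toFinite _)
  have hpowU : ∀ (i : ℕ), ∀ u ∈ U, x ^ i * u * (x ^ i)⁻¹ ∈ U := by
    intro i
    induction i with
    | zero => simp
    | succ i ih =>
      intro u hu
      rw [pow_succ', show x * x ^ i * u * (x * x ^ i)⁻¹ = x * (x ^ i * u * (x ^ i)⁻¹) * x⁻¹ by group]
      exact hxU _ (ih u hu)
  let φ : Fin 13 × U0 → U := fun p =>
    ⟨x ^ (p.1 : ℕ) * p.2.1 * (x ^ (p.1 : ℕ))⁻¹, hpowU _ _ ⟨hC0Q p.2.2.1, p.2.2.2⟩⟩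
  have hkey : ∀ (i j : ℕ) (a b : U0), x ^ i * a.1 * (x ^ i)⁻¹ = x ^ j * b.1 * (x ^ j)⁻¹ →
      i % 13 = j % 13 ∧ a = b := by
    intro i j a b h
    set r := (i : ℤ) - j
    have hr : x ^ r * a.1 * (x ^ r)⁻¹ = b.1 := by
      simp only [r, zpow_sub, zpow_natCast]
      rw [((Commute.pow_pow (Commute.refl x) i j).inv_right).eq]
      calc (x ^ j)⁻¹ * x ^ i * a.1 * ((x ^ j)⁻¹ * x ^ i)⁻¹ = (x ^ j)⁻¹ * (x ^ i * a.1 * (x ^ i)⁻¹) * x ^ j := by
            group
        _ = b.1 := by rw [h]; group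
    have hfix : ∀ u : U0, t * u.1 * t⁻¹ = u.1 := fun u => by
      rw [← (Subgroup.mem_centralizer_singleton_iff.mp (Subgroup.mem_inf.mp u.2.1).2), mul_inv_cancel_right]
    have hr' : (x ^ r)⁻¹ * a.1 * x ^ r = b.1 := by
      rw [← hfix b, ← hr, show t * (x ^ r * a.1 * (x ^ r)⁻¹) * t⁻¹ =
        (t * x ^ r * t⁻¹) * (t * a.1 * t⁻¹) * (t * x ^ r * t⁻¹)⁻¹ by group, hfix a, ← conj_zpow, htx, inv_zpow,
        inv_inv]
    have h2 : Commute (x ^ (2 * r)) a.1 := by
      rw [mul_comm, zpow_mul]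
      show (x ^ r) ^ (2 : ℤ) * a.1 = a.1 * (x ^ r) ^ (2 : ℤ)
      calc (x ^ r) ^ (2 : ℤ) * a.1 = x ^ r * (x ^ r * a.1 * (x ^ r)⁻¹) * x ^ r := by group
        _ = x ^ r * ((x ^ r)⁻¹ * a.1 * x ^ r) * x ^ r := by rw [hr, hr']
        _ = a.1 * (x ^ r) ^ (2 : ℤ) := by group
    have hmod : (13 : ℤ) ∣ r := by
      by_contra hnd
      refine a.2.2 (hCQ _ (hC0Q a.2.1) ?_)
      have hg : Int.gcd (2 * r) 13 = 1 := by
        refine Nat.Coprime.gcd_eq_one ?_
        rw [show (13 : ℤ).natAbs = 13 from rfl, Nat.coprime_comm, Nat.Prime.coprime_iff_not_dvd (by norm_num)]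
        intro hd
        have : (13 : ℤ) ∣ 2 * r := Int.natCast_dvd.mpr hd
        omega
      have hx1 : x = (x ^ (2 * r)) ^ Int.gcdA (2 * r) 13 := by
        have hb := Int.gcd_eq_gcd_ab (2 * r) 13
        rw [hg, Nat.cast_one] at hb
        conv_lhs => rw [← zpow_one x, hb, zpow_add, zpow_mul x (2 * r), zpow_mul x 13]
        rw [show x ^ (13 : ℤ) = 1 from by exact_mod_cast hx13, one_zpow, mul_one]
      rw [hx1]
      exact (h2.zpow_left _).symm
    obtain ⟨l, hl⟩ := hmod
    have hij : i % 13 = j % 13 := by omega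
    refine ⟨hij, Subtype.ext ?_⟩
    rw [show x ^ i = x ^ j by rw [pow_eq_pow_mod i hx13, hij, ← pow_eq_pow_mod j hx13]] at h
    simpa using h
  have hφinj : Function.Injective φ := fun p p' h => by
    obtain ⟨h1, h2⟩ := hkey p.1 p'.1 p.2 p'.2 (congrArg Subtype.val h)
    exact Prod.ext (Fin.ext (by omega)) h2
  have hφ : Function.Surjective φ := by
    refine ((Nat.bijective_iff_injective_and_card φ).mpr ⟨hφinj, ?_⟩).2
    rw [Nat.card_prod, Nat.card_fin, Nat.card_coe_set_eq, Nat.card_coe_set_eq]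
    omega
  obtain ⟨g, hgQ, hgC⟩ : ∃ g ∈ Q, g ∉ C0 := by
    by_contra h
    push Not at h
    have := Subgroup.card_le_of_le (show Q ≤ C0 from h)
    rw [hQ3, hC03] at this
    norm_num at this
  set v := g⁻¹ * (t * g * t⁻¹)
  have htQ : t * g * t⁻¹ ∈ Q := by
    have hc : g ^ 3 ^ (2 + 2) = 1 := orderOf_dvd_iff_pow_eq_one.mp (hQ3 ▸ Subgroup.orderOf_dvd_natCard Q hgQ)
    have h := hpow _ (hMn t htK g (hQM hgQ))
    have h81 : (t * g * t⁻¹) ^ 81 = 1 := by rw [conj_pow, show g ^ 81 = 1 from hc]; group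
    rw [show t * g * t⁻¹ = ((t * g * t⁻¹) ^ 13) ^ 25 by
      rw [← pow_mul, pow_eq_pow_mod _ h81, show 13 * 25 % 81 = 1 from rfl, pow_one]]
    exact pow_mem h 25
  have htv : t * v * t⁻¹ = v⁻¹ := by
    simp only [v]
    have hti : t⁻¹ = t := inv_eq_of_mul_eq_one_right ht2
    rw [hti]
    calc t * (g⁻¹ * (t * g * t)) * t = t * g⁻¹ * t * g * (t * t) := by group
      _ = t * g⁻¹ * t⁻¹ * g := by rw [ht2, mul_one, hti]
      _ = (g⁻¹ * (t * g * t⁻¹))⁻¹ := by group
      _ = _ := by rw [hti]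
  have hvne : v ≠ 1 := fun h => hgC (Subgroup.mem_inf.mpr ⟨hQM hgQ, Subgroup.mem_centralizer_singleton_iff.mpr (by
    have h' : g = t * g * t⁻¹ := inv_mul_eq_one.mp h
    nth_rw 1 [h']
    rw [inv_mul_cancel_right])⟩)
  have hvY : v ∉ Yy := fun h => by
    obtain ⟨l, hl⟩ := Subgroup.mem_zpowers_iff.mp h
    rw [← hl, (hty.zpow_right l).eq, mul_inv_cancel_right, hl] at htv
    have h2 : v ^ 2 = 1 := by rw [pow_two]; nth_rw 1 [htv]; rw [inv_mul_cancel]
    have h3 : v ^ 3 = 1 := by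
      rw [← hl, ← zpow_natCast, ← zpow_mul, mul_comm, zpow_mul, zpow_natCast, hy3, one_zpow]
    exact hvne (by simpa using pow_gcd_eq_one.mpr ⟨h2, h3⟩)
  obtain ⟨⟨i, a⟩, hia⟩ := hφ ⟨v, mul_mem (inv_mem hgQ) htQ, hvY⟩
  have hia' : x ^ (i : ℕ) * a.1 * (x ^ (i : ℕ))⁻¹ = v := congrArg Subtype.val hia
  have hfix : t * a.1 * t⁻¹ = a.1 := by
    rw [← (Subgroup.mem_centralizer_singleton_iff.mp (Subgroup.mem_inf.mp a.2.1).2), mul_inv_cancel_right]
  have hainv : a.1⁻¹ ∈ U0 := ⟨C0.inv_mem a.2.1, fun h => a.2.2 ((inv_mem_iff).mp h)⟩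
  obtain ⟨j, hj⟩ : ∃ j : ℕ, (x ^ (i : ℕ))⁻¹ = x ^ j := by
    refine ⟨12 * (i : ℕ), inv_eq_of_mul_eq_one_right ?_⟩
    rw [← pow_add, show (i : ℕ) + 12 * i = 13 * i by ring, pow_mul, hx13, one_pow]
  have h := hkey j i a ⟨a.1⁻¹, hainv⟩ (by
    rw [← hj]
    show (x ^ (i : ℕ))⁻¹ * a.1 * (x ^ (i : ℕ))⁻¹⁻¹ = x ^ (i : ℕ) * a.1⁻¹ * (x ^ (i : ℕ))⁻¹
    calc (x ^ (i : ℕ))⁻¹ * a.1 * (x ^ (i : ℕ))⁻¹⁻¹
        = (t * x ^ (i : ℕ) * t⁻¹) * (t * a.1 * t⁻¹) * (t * x ^ (i : ℕ) * t⁻¹)⁻¹ := by
          rw [← conj_pow, htx, inv_pow, hfix]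
      _ = t * v * t⁻¹ := by rw [← hia']; group
      _ = (x ^ (i : ℕ) * a.1 * (x ^ (i : ℕ))⁻¹)⁻¹ := by rw [htv, hia']
      _ = x ^ (i : ℕ) * a.1⁻¹ * (x ^ (i : ℕ))⁻¹ := by group)
  have ha : a.1 = a.1⁻¹ := congrArg Subtype.val h.2
  have h2 : a.1 ^ 2 = 1 := by rw [pow_two]; nth_rw 1 [ha]; rw [inv_mul_cancel]
  have h9 : a.1 ^ 9 = 1 := orderOf_dvd_iff_pow_eq_one.mp (by
    have := Subgroup.orderOf_dvd_natCard C0 a.2.1
    rwa [hC03] at this)
  have ha1 : a.1 = 1 := by simpa using pow_gcd_eq_one.mpr ⟨h2, h9⟩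
  exact a.2.2 (ha1 ▸ one_mem Yy)

include S in
theorem self_centralising {x : G} (hx : orderOf x = 13) :
    Nat.card (Subgroup.normalizer (Subgroup.zpowers x : Set G)) = 78 ∧
      Nat.card (Subgroup.centralizer ({x} : Set G)) = 13 := by
  obtain ⟨hN, h13 | h39⟩ := centralizer_small S hx
  · exact ⟨hN, h13⟩
  exfalso
  have : Fact (Nat.Prime 3) := ⟨Nat.prime_three⟩
  obtain ⟨y, hy⟩ := exists_prime_orderOf_dvd_card' (G := Subgroup.centralizer ({x} : Set G)) 3
    (by rw [h39]; norm_num)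
  rw [← Subgroup.orderOf_coe] at hy
  obtain ⟨t, ht, htN, htC, htx⟩ := exists_inverting S hx
  exact no_thirty_nine S hx hy (Subgroup.mem_centralizer_singleton_iff.mp y.2).symm h39 hN ht htN htC htx

end Cfsg.Agent.Lib.FischerMTypes.Thirteen

namespace Cfsg.Agent.Lib.FischerMTypes.Thirteen

universe u

open Cfsg.Agent.Lib.FischerMTypes.TraceCounts (Sys exists_sys)

/-- type M(22), from the definition -/
theorem thirteen_M22 {G : Type u} [Group G] [Finite G] {D : Set G} (hD : Cfsg.IsThreeTranspositionGroup D)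
    (hprim : Cfsg.IsPrimitiveUnderConj D) (h : Cfsg.IsOfTypeM22 G D) :
    (∀ X Y : Subgroup G, Nat.card X = 13 → Nat.card Y = 13 → ∃ g : G, X.map (MulAut.conj g).toMonoidHom = Y) ∧
      ∀ X : Subgroup G, Nat.card X = 13 → Nat.card (Subgroup.normalizer (X : Set G)) = 78 ∧
        Subgroup.centralizer (X : Set G) = X := by
  have : Fact (Nat.Prime 13) := ⟨by norm_num⟩
  obtain ⟨F, _, _, ⟨S⟩⟩ := exists_sys hD hprim h
  refine ⟨fun X Y hX hY => PrimeOnce.exists_conj (once_thirteen S) hX hY, fun X hX => ?_⟩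
  obtain ⟨x, hx, hXeq⟩ := PrimeOnce.exists_gen hX
  obtain ⟨h1, h2⟩ := self_centralising S hx
  subst hXeq
  refine ⟨h1, (Subgroup.eq_of_le_of_card_ge (PrimeOnce.le_centralizer_self hX) ?_).symm⟩
  rw [PrimeOnce.centralizer_zpowers, h2, hX]

end Cfsg.Agent.Lib.FischerMTypes.Thirteen
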